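/-
Alperin–Brauer–Gorenstein, character theory: `GL₂(q)/Z` satisfies `HA`.
-/
import Cfsg.Agent.Lib.ABG.HA
import Cfsg.Agent.Lib.Br.GL2b

set_option autoImplicit false
set_option linter.unusedSectionVars false

namespace CA.ABG
open Cfsg Subgroup CA CA.Ch CA.Br Matrix

variable {F : Type*} [Field F]

/-- `π : GL₂(F) → G` maps onto the centralizer of `t = π (-1)` with central kernel of odd order, and `ρ` permutes
the three involutions of the diagonal group. -/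
structure HyL (G : Type*) [Group G] (F : Type*) [Field F] [Fintype F] where
  π : L2 F →* G
  odd : Odd (Fintype.card F)
  ker : ∀ g, π g = 1 → ∃ c : Fˣ, Odd (orderOf c) ∧ g = dg (c, c)
  cent : π.range = 𝐂[π (dg (-1, -1))]
  ε : F
  nsq : ¬ IsSquare ε

namespace HyL

variable {G : Type*} [Group G] [Fintype F] (S : HyL G F)

noncomputable def t : G := S.π (dg (-1, -1))
noncomputable def u : G := S.π (dg (1, -1))
noncomputable def w : G := S.π ww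
noncomputable def H : Subgroup G := S.π.range
noncomputable def T : Subgroup G := (S.π.comp dg).range
noncomputable def Z : Subgroup G := (S.π.comp (dg.comp ((MonoidHom.id Fˣ).prod (MonoidHom.id Fˣ)))).range
noncomputable def Tm : Subgroup G := (S.π.comp (dg.comp ((MonoidHom.id Fˣ).prod invMonoidHom))).range
noncomputable def U : Subgroup G := (S.π.comp xp).range
noncomputable def U' : Subgroup G := (S.π.comp xm).range
noncomputable def W : Subgroup G := (WW S.ε).map S.π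
noncomputable def Wm : Subgroup G := (WW S.ε ⊓ GeneralLinearGroup.det.ker).map S.π
noncomputable def V : Subgroup G := zpowers S.t ⊔ zpowers S.u
/-- the order of the centre of `H` -/
noncomputable def d : ℕ := Nat.card S.Z

theorem mem_H' {x : G} : x ∈ S.H ↔ ∃ g, S.π g = x := Iff.rfl
theorem mem_T' {x : G} : x ∈ S.T ↔ ∃ a, S.π (dg a) = x := Iff.rfl
theorem mem_Z' {x : G} : x ∈ S.Z ↔ ∃ c, S.π (dg (c, c)) = x := Iff.rfl
theorem mem_Tm' {x : G} : x ∈ S.Tm ↔ ∃ c, S.π (dg (c, c⁻¹)) = x := Iff.rfl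
theorem mem_U' {x : G} : x ∈ S.U ↔ ∃ a, S.π (xp a) = x := Iff.rfl
theorem mem_U'' {x : G} : x ∈ S.U' ↔ ∃ a, S.π (xm a) = x := Iff.rfl
theorem H_eq : S.H = 𝐂[S.t] := S.cent
theorem mem_H {x : G} : x ∈ S.H ↔ x * S.t = S.t * x := by rw [H_eq, mem_centralizer_singleton_iff]

include S in
theorem two_ne : (2 : F) ≠ 0 := SL2.two_ne_zero_of_odd S.odd
include S in
theorem neg_one_ne : (-1 : Fˣ) ≠ 1 := fun h => S.two_ne (by
  have := congrArg Units.val h; simp only [Units.val_neg, Units.val_one] at this; linear_combination -this)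

theorem eq_iff {g h : L2 F} (e : S.π g = S.π h) : ∃ c : Fˣ, Odd (orderOf c) ∧ g = dg (c, c) * h := by
  obtain ⟨c, hc, e⟩ := S.ker (g * h⁻¹) (by rw [map_mul, map_inv, e, mul_inv_cancel])
  exact ⟨c, hc, by rw [← e, inv_mul_cancel_right]⟩

/-- commutation is exact modulo the kernel -/
theorem comm_of_comm {g h : L2 F} (e : S.π g * S.π h = S.π h * S.π g) : g * h = h * g := by
  obtain ⟨c, hc, e⟩ := S.eq_iff (g := g * h) (h := h * g) (by rw [map_mul, map_mul, e])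
  have := congrArg GeneralLinearGroup.det e
  simp only [map_mul, mul_comm (GeneralLinearGroup.det h)] at this
  have h1 : GeneralLinearGroup.det (dg (c, c)) = c * c := Units.ext (by
    rw [GeneralLinearGroup.val_det_apply, det_fin_two]; simp)
  rw [Hyp.eq_one_of_sq hc (by rw [← h1]; exact (mul_eq_right.1 this.symm)), show ((1 : Fˣ), (1 : Fˣ)) = 1 from rfl,
    map_one, one_mul] at e
  exact e

theorem tt : S.t * S.t = 1 := by rw [t, ← map_mul, ← map_mul]; simp [Prod.mk_one_one]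
theorem uu : S.u * S.u = 1 := by rw [u, ← map_mul, ← map_mul]; simp [Prod.mk_one_one]
theorem ww' : S.w * S.w = 1 := by rw [w, ← map_mul, ww_ww, map_one]
theorem tu_eq : S.t * S.u = S.π (dg (-1, 1)) := by rw [t, u, ← map_mul, ← map_mul]; simp
theorem ut : S.u * S.t = S.t * S.u := S.mem_H.1 ⟨_, rfl⟩
theorem wt : S.w * S.t = S.t * S.w := S.mem_H.1 ⟨_, rfl⟩
theorem wu : S.w * S.u * S.w⁻¹ = S.t * S.u := by
  rw [tu_eq, w, u, ← map_mul, ww_dg, map_mul, mul_inv_cancel_right]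
theorem dg_ne {a b : Fˣ} (ha : a * a = 1) (hb : b * b = 1) (h : S.π (dg (a, b)) = 1) : a = 1 ∧ b = 1 := by
  obtain ⟨c, hc, e⟩ := S.ker _ h
  obtain ⟨e1, e2⟩ : a = c ∧ b = c := Prod.ext_iff.1 (dg_injective e)
  exact ⟨Hyp.eq_one_of_sq (e1 ▸ hc) ha, Hyp.eq_one_of_sq (e2 ▸ hc) hb⟩
theorem t_ne : S.t ≠ 1 := fun h => S.neg_one_ne (S.dg_ne (by simp) (by simp) h).1
theorem u_ne : S.u ≠ 1 := fun h => S.neg_one_ne (S.dg_ne (by simp) (by simp) h).2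
theorem tu_ne : S.t * S.u ≠ 1 := fun h => S.neg_one_ne (S.dg_ne (by simp) (by simp) (S.tu_eq ▸ h)).1
theorem t_ne_u : S.t ≠ S.u := fun h => S.tu_ne (by rw [h, uu])

theorem t_T : S.t ∈ S.T := ⟨_, rfl⟩
theorem u_T : S.u ∈ S.T := ⟨_, rfl⟩
theorem T_le_H : S.T ≤ S.H := by rintro _ ⟨a, rfl⟩; exact ⟨_, rfl⟩
theorem Z_le_T : S.Z ≤ S.T := by rintro _ ⟨a, rfl⟩; exact ⟨_, rfl⟩
theorem Tm_le_T : S.Tm ≤ S.T := by rintro _ ⟨a, rfl⟩; exact ⟨_, rfl⟩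
theorem U_le_H : S.U ≤ S.H := by rintro _ ⟨a, rfl⟩; exact ⟨_, rfl⟩
theorem U'_le_H : S.U' ≤ S.H := by rintro _ ⟨a, rfl⟩; exact ⟨_, rfl⟩
theorem W_le_H : S.W ≤ S.H := by rintro _ ⟨a, -, rfl⟩; exact ⟨_, rfl⟩
theorem Wm_le_W : S.Wm ≤ S.W := map_mono inf_le_left
theorem w_H : S.w ∈ S.H := ⟨_, rfl⟩
theorem t_Z : S.t ∈ S.Z := ⟨_, rfl⟩
theorem Z_comm {z h : G} (hz : z ∈ S.Z) (hh : h ∈ S.H) : z * h = h * z := by
  obtain ⟨c, rfl⟩ := S.mem_Z'.1 hz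
  obtain ⟨g, rfl⟩ := hh
  rw [← map_mul, sc_comm, map_mul]

theorem ε_ne : S.ε ≠ 0 := fun h => S.nsq (h ▸ IsSquare.zero)
theorem mem_W' {x : G} : x ∈ S.W ↔ ∃ g : L2 F, (g 0 0 = g 1 1 ∧ g 0 1 = S.ε * g 1 0) ∧ S.π g = x := by
  simp only [W, mem_map, Hyp.mem_WW S.ε_ne]
theorem Z_le_W : S.Z ≤ S.W := by
  rintro _ ⟨a, rfl⟩; exact S.mem_W'.2 ⟨dg (a, a), by simp, rfl⟩
theorem t_W : S.t ∈ S.W := S.Z_le_W S.t_Z

theorem mem_T {x : G} : x ∈ S.T ↔ x * S.t = S.t * x ∧ x * S.u = S.u * x := by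
  refine ⟨fun h => ⟨S.mem_H.1 (S.T_le_H h), ?_⟩, fun ⟨h1, h2⟩ => ?_⟩
  · obtain ⟨a, rfl⟩ := S.mem_T'.1 h
    rw [u, ← map_mul, ← map_mul, ← map_mul, ← map_mul, mul_comm]
  · obtain ⟨g, rfl⟩ := S.mem_H.2 h1
    have e := S.comm_of_comm h2
    have h0 := congrArg (fun g : L2 F => g 0 1) e
    have h1 := congrArg (fun g : L2 F => g 1 0) e
    simp only [mul_ent, dg_00, dg_01, dg_10, dg_11, Units.val_neg, Units.val_one] at h0 h1
    obtain ⟨a, rfl⟩ := exists_dg (g := g) (mul_left_cancel₀ S.two_ne (by linear_combination -h0))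
      (mul_left_cancel₀ S.two_ne (by linear_combination h1))
    exact ⟨a, rfl⟩

instance instCommT : IsMulCommutative S.T := ⟨⟨by
  rintro ⟨_, a, rfl⟩ ⟨_, b, rfl⟩
  exact Subtype.ext ((map_mul _ a b).symm.trans ((congrArg _ (mul_comm a b)).trans (map_mul _ b a)))⟩⟩

instance instCommW : IsMulCommutative S.W := ⟨⟨by
  rintro ⟨_, a, ha, rfl⟩ ⟨_, b, hb, rfl⟩
  exact Subtype.ext ((map_mul _ a b).symm.trans
    ((congrArg _ (hb a ((Hyp.mem_WW S.ε_ne).1 ha))).trans (map_mul _ b a)))⟩⟩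

theorem w_T {x : G} (hx : x ∈ S.T) : S.w * x * S.w⁻¹ ∈ S.T := by
  obtain ⟨⟨a, b⟩, rfl⟩ := S.mem_T'.1 hx
  exact ⟨(b, a), by rw [w, ← map_mul, ww_dg, map_mul, mul_inv_cancel_right]; rfl⟩
theorem u_W {x : G} (hx : x ∈ S.W) : S.u * x * S.u⁻¹ ∈ S.W := by
  obtain ⟨g, ⟨h1, h2⟩, rfl⟩ := S.mem_W'.1 hx
  rw [inv_eq_of_mul_eq_one_right S.uu, u, ← map_mul, ← map_mul]
  exact S.mem_W'.2 ⟨_, by simp [mul_ent, h1, h2], rfl⟩

end HyL

variable [Fintype F] {G : Type*} [Group G] [Finite G]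
local notation "𝔮" => Fintype.card F

namespace HyL
variable (S : HyL G F)

theorem a_eq {g h : L2 F} (e : S.π g = S.π h) : ∃ c : Fˣ, S.π (dg (c, c)) = 1 ∧ g = dg (c, c) * h := by
  obtain ⟨c, -, hc⟩ := S.eq_iff e
  refine ⟨c, ?_, hc⟩
  rw [hc, map_mul] at e
  exact mul_eq_right.1 e

theorem a_T {g : L2 F} : S.π g ∈ S.T ↔ g 0 1 = 0 ∧ g 1 0 = 0 := by
  refine ⟨fun ⟨a, h⟩ => ?_, fun h => ?_⟩
  · obtain ⟨c, -, rfl⟩ := S.a_eq h.symm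
    simp [mul_ent]
  · obtain ⟨a, rfl⟩ := exists_dg h.1 h.2
    exact ⟨a, rfl⟩
theorem a_Z {g : L2 F} : S.π g ∈ S.Z ↔ aSc g := by
  refine ⟨fun h => ?_, fun h => ?_⟩
  · obtain ⟨a, h⟩ := S.mem_Z'.1 h
    obtain ⟨c, -, rfl⟩ := S.a_eq h.symm
    simp [mul_ent, aSc]
  · obtain ⟨a, rfl⟩ := a_sc_dg h
    exact ⟨a, rfl⟩
theorem a_W {g : L2 F} : S.π g ∈ S.W ↔ g 0 0 = g 1 1 ∧ g 0 1 = S.ε * g 1 0 := by
  refine ⟨fun h => ?_, fun h => S.mem_W'.2 ⟨g, h, rfl⟩⟩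
  obtain ⟨a, ⟨h1, h2⟩, h⟩ := S.mem_W'.1 h
  obtain ⟨c, -, rfl⟩ := S.a_eq h.symm
  simp only [mul_ent, dg_00, dg_01, dg_10, dg_11, h1, h2]
  exact ⟨by ring, by ring⟩

theorem sl_inj {g : L2 F} (hd : GeneralLinearGroup.det g = 1) (h : S.π g = 1) : g = 1 := by
  obtain ⟨c, hc, rfl⟩ := S.ker g h
  rw [a_det_dg] at hd
  rw [Hyp.eq_one_of_sq hc hd, Prod.mk_one_one, map_one]
theorem xp_inj : Function.Injective fun a => S.π (xp a) :=
  (injective_iff_map_eq_one (S.π.comp xp)).2 fun a h => by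
    have := S.sl_inj (g := xp a) (a_det_one.2 (by simp [aDet])) h
    simpa using (a_ent this).2.1
theorem xm_inj : Function.Injective fun a => S.π (xm a) :=
  (injective_iff_map_eq_one (S.π.comp xm)).2 fun a h => by
    have := S.sl_inj (g := xm a) (a_det_one.2 (by simp [aDet])) h
    simpa using (a_ent this).2.2.1
theorem card_U : Nat.card S.U = 𝔮 := by
  rw [U, a_card_range S.xp_inj]; simp
theorem card_U' : Nat.card S.U' = 𝔮 := by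
  rw [U', a_card_range S.xm_inj]; simp
theorem card_Tm : Nat.card S.Tm = 𝔮 - 1 := by
  rw [Tm, a_card_range, a_card_units]
  refine (injective_iff_map_eq_one _).2 fun a h => ?_
  have := S.sl_inj (g := dg (a, a⁻¹)) (by rw [a_det_dg, mul_inv_cancel]) h
  exact Units.ext (by simpa using (a_ent this).1)

theorem a_d : S.d * Nat.card S.π.ker = 𝔮 - 1 := by
  have h : S.π.ker ≤ (aS : Fˣ →* L2 F).range := fun g hg => by
    obtain ⟨c, -, rfl⟩ := S.ker g hg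
    exact ⟨c, rfl⟩
  have := a_card_map S.π h
  rw [MonoidHom.map_range, a_card_range (f := aS) fun a b e => (Prod.ext_iff.1 (dg_injective e)).1,
    a_card_units] at this
  exact this
theorem a_ker_pos : 0 < Nat.card S.π.ker := Nat.card_pos
theorem d_dvd : ∃ k, Odd k ∧ 𝔮 - 1 = S.d * k := by
  refine ⟨_, ?_, S.a_d.symm⟩
  rw [← Nat.not_even_iff_odd, even_iff_two_dvd]
  intro h
  obtain ⟨x, hx, h2⟩ := exists_orderOf_eq_prime Nat.prime_two h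
  obtain ⟨c, hc, rfl⟩ := S.ker x hx
  have : orderOf (aS c : L2 F) = orderOf c :=
    orderOf_injective aS (fun a b e => (Prod.ext_iff.1 (dg_injective e)).1) c
  rw [← this, aS_apply, h2] at hc
  exact absurd hc (by decide)
theorem card_T : Nat.card S.T = (𝔮 - 1) * S.d := by
  have h : S.π.ker ≤ (dg : Fˣ × Fˣ →* L2 F).range := fun g hg => by
    obtain ⟨c, -, rfl⟩ := S.ker g hg
    exact ⟨_, rfl⟩
  have := a_card_map S.π h
  rw [MonoidHom.map_range, a_card_range dg_injective, Nat.card_prod, a_card_units] at this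
  refine Nat.eq_of_mul_eq_mul_right S.a_ker_pos ?_
  rw [mul_assoc, S.a_d]; exact this
theorem card_W : Nat.card S.W = (𝔮 + 1) * S.d := by
  have h : S.π.ker ≤ WW S.ε := fun g hg => by
    obtain ⟨c, -, rfl⟩ := S.ker g hg
    exact (Hyp.mem_WW S.ε_ne).2 (by simp)
  have := a_card_map S.π h
  rw [a_card_WW S.nsq] at this
  refine Nat.eq_of_mul_eq_mul_right S.a_ker_pos ?_
  rw [mul_assoc, S.a_d]; exact this
theorem card_H : Nat.card S.H = 𝔮 * ((𝔮 - 1) * (𝔮 + 1)) * S.d := by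
  have := a_card_map S.π (X := ⊤) le_top
  rw [← MonoidHom.range_eq_map, card_top, Lin.card_GL_two] at this
  refine Nat.eq_of_mul_eq_mul_right S.a_ker_pos ?_
  rw [mul_assoc, S.a_d, H, this]
  obtain ⟨n, hn⟩ : ∃ n, 𝔮 = n + 1 := Nat.exists_eq_succ_of_ne_zero Fintype.card_ne_zero
  rw [hn, show (n + 1) ^ 2 - 1 = n * (n + 2) by rw [Nat.sub_eq_iff_eq_add (by nlinarith)]; ring,
    show (n + 1) ^ 2 - (n + 1) = n * (n + 1) by rw [Nat.sub_eq_iff_eq_add (by nlinarith)]; ring]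
  simp only [Nat.add_sub_cancel]; ring
theorem card_Wm : Nat.card S.Wm = 𝔮 + 1 := by
  have h1 : Nat.card S.Wm = Nat.card (WW S.ε ⊓ GeneralLinearGroup.det.ker : Subgroup (L2 F)) := by
    have h : S.π.ker ⊓ (WW S.ε ⊓ GeneralLinearGroup.det.ker) = ⊥ := eq_bot_iff.2 fun g hg => S.sl_inj hg.2.2 hg.1
    rw [Wm, ← relIndex_ker, ← card_inf_mul_relIndex S.π.ker (WW S.ε ⊓ GeneralLinearGroup.det.ker), h,
      card_bot, one_mul]
  have h2 := card_inf_mul_relIndex (GeneralLinearGroup.det : L2 F →* Fˣ).ker (WW S.ε)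
  have h3 : (WW S.ε).map GeneralLinearGroup.det = ⊤ := eq_top_iff.2 fun c _ => a_norm_surj S.odd S.nsq c
  rw [relIndex_ker, h3, card_top, a_card_units, a_card_WW S.nsq,
    inf_comm] at h2
  rw [h1]
  exact Nat.eq_of_mul_eq_mul_right (by have := Fintype.one_lt_card (α := F); omega) h2

theorem T_norm_U : S.T ≤ 𝐍(S.U) := by
  rintro _ ⟨⟨a, b⟩, rfl⟩
  refine mem_normalizer_of_cj_le (cj_le_iff'.2 ?_)
  rintro _ ⟨c, rfl⟩
  simp only [MonoidHom.comp_apply]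
  rw [← map_inv, ← map_mul, ← map_mul, a_dg_xp]
  exact ⟨_, rfl⟩
theorem mem_ZU {x : G} : x ∈ S.Z ⊔ S.U ↔ ∃ z ∈ S.Z, ∃ y ∈ S.U, x = z * y := by
  simp only [mem_sup_of_norm_left (S.Z_le_T.trans S.T_norm_U), eq_comm]
theorem mem_B {x : G} : x ∈ S.T ⊔ S.U ↔ ∃ z ∈ S.T, ∃ y ∈ S.U, x = z * y := by
  simp only [mem_sup_of_norm_left S.T_norm_U, eq_comm]
theorem a_B {g : L2 F} : S.π g ∈ S.T ⊔ S.U ↔ g 1 0 = 0 := by
  refine ⟨fun h => ?_, fun h => ?_⟩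
  · obtain ⟨_, ⟨a, rfl⟩, _, ⟨b, rfl⟩, h⟩ := S.mem_B.1 h
    obtain ⟨c, -, rfl⟩ := S.a_eq (h.trans (map_mul S.π (dg a) (xp b)).symm)
    simp [mul_ent]
  · obtain ⟨a, c, rfl⟩ := a_upper h
    exact S.mem_B.2 ⟨_, ⟨a, rfl⟩, _, ⟨c, rfl⟩, map_mul _ _ _⟩
theorem a_ZU {g : L2 F} : S.π g ∈ S.Z ⊔ S.U ↔ g 1 0 = 0 ∧ g 0 0 = g 1 1 := by
  refine ⟨fun h => ?_, fun h => ?_⟩
  · obtain ⟨_, ⟨a, rfl⟩, _, ⟨b, rfl⟩, h⟩ := S.mem_ZU.1 h
    obtain ⟨c, -, rfl⟩ := S.a_eq (h.trans (map_mul S.π (dg (a, a)) (xp b)).symm)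
    simp [mul_ent]
  · obtain ⟨⟨a, b⟩, c, rfl⟩ := a_upper h.1
    obtain rfl : a = b := Units.ext (by simpa [mul_ent] using h.2)
    exact S.mem_ZU.2 ⟨_, ⟨a, rfl⟩, _, ⟨c, rfl⟩, map_mul _ _ _⟩
theorem T_inf_U : S.T ⊓ S.U = ⊥ := eq_bot_iff.2 <| by
  rintro _ ⟨h, a, rfl⟩
  obtain rfl : a = 1 := (S.a_T.1 h).1
  exact map_one _
theorem T_inf_U' : S.T ⊓ S.U' = ⊥ := eq_bot_iff.2 <| by
  rintro _ ⟨h, a, rfl⟩
  obtain rfl : a = 1 := (S.a_T.1 h).2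
  exact map_one _
theorem U_inf_U' : S.U ⊓ S.U' = ⊥ := eq_bot_iff.2 <| by
  rintro _ ⟨h, a, rfl⟩
  obtain rfl : a = 1 := S.a_B.1 (mem_sup_right h)
  exact map_one _
theorem card_ZU : Nat.card ↥(S.Z ⊔ S.U) = 𝔮 * S.d := by
  rw [card_sup_of_disjoint (Or.inr (S.Z_le_T.trans S.T_norm_U))
    (eq_bot_iff.2 ((inf_le_inf_right _ S.Z_le_T).trans S.T_inf_U.le)), card_U, mul_comm, d]
theorem card_B : Nat.card ↥(S.T ⊔ S.U) = 𝔮 * ((𝔮 - 1) * S.d) := by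
  rw [card_sup_of_disjoint (Or.inr S.T_norm_U) S.T_inf_U, card_U, card_T, mul_comm]

/-! ### centralizers -/
theorem cent_T {x h : G} (hx : x ∈ S.T) (hz : x ∉ S.Z) (hh : h ∈ S.H) (e : h * x = x * h) : h ∈ S.T := by
  obtain ⟨x, rfl⟩ := S.T_le_H hx
  obtain ⟨h, rfl⟩ := hh
  obtain ⟨x1, x2⟩ := S.a_T.1 hx
  have n : x 0 0 - x 1 1 ≠ 0 := fun e => hz (S.a_Z.2 ⟨x1, x2, sub_eq_zero.1 e⟩)
  obtain ⟨-, e1, e2, -⟩ := a_ent (S.comm_of_comm e)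
  simp only [mul_ent, x1, x2] at e1 e2
  exact S.a_T.2 ⟨mul_left_cancel₀ n (by linear_combination -e1), mul_left_cancel₀ n (by linear_combination e2)⟩
theorem a_W10 {x : L2 F} (hx : S.π x ∈ S.W) (hz : S.π x ∉ S.Z) : x 1 0 ≠ 0 := fun e => by
  obtain ⟨x1, x2⟩ := S.a_W.1 hx
  exact hz (S.a_Z.2 ⟨by rw [x2, e, mul_zero], e, x1⟩)
theorem cent_W {x h : G} (hx : x ∈ S.W) (hz : x ∉ S.Z) (hh : h ∈ S.H) (e : h * x = x * h) : h ∈ S.W := by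
  obtain ⟨x, rfl⟩ := S.W_le_H hx
  obtain ⟨h, rfl⟩ := hh
  have n := S.a_W10 hx hz
  obtain ⟨x1, x2⟩ := S.a_W.1 hx
  obtain ⟨e0, -, e2, -⟩ := a_ent (S.comm_of_comm e)
  simp only [mul_ent, x1, x2] at e0 e2
  exact S.a_W.2 ⟨mul_left_cancel₀ n (by linear_combination -e2), mul_left_cancel₀ n (by linear_combination e0)⟩
theorem a_xp_ne {a : Multiplicative F} (h : S.π (xp a) ≠ 1) : a.toAdd ≠ 0 := fun e => by
  obtain rfl : a = 1 := e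
  exact h (by rw [map_one, map_one])
theorem cent_U {x h : G} (hx : x ∈ S.U) (h1 : x ≠ 1) (hh : h ∈ S.H) (e : h * x = x * h) : h ∈ S.Z ⊔ S.U := by
  obtain ⟨a, rfl⟩ := S.mem_U'.1 hx
  obtain ⟨h, rfl⟩ := hh
  have n := S.a_xp_ne h1
  obtain ⟨e0, e1, -, -⟩ := a_ent (S.comm_of_comm e)
  simp only [mul_ent, xp_00, xp_01, xp_10, xp_11] at e0 e1
  exact S.a_ZU.2 ⟨mul_left_cancel₀ n (by linear_combination -e0), mul_left_cancel₀ n (by linear_combination e1)⟩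
theorem T_inf_W : S.T ⊓ S.W = S.Z := by
  refine le_antisymm (fun x hx => ?_) (le_inf S.Z_le_T S.Z_le_W)
  obtain ⟨x, rfl⟩ := S.T_le_H hx.1
  exact S.a_Z.2 ⟨(S.a_T.1 hx.1).1, (S.a_T.1 hx.1).2, (S.a_W.1 hx.2).1⟩
theorem T_inf_ZU : S.T ⊓ (S.Z ⊔ S.U) = S.Z := by
  refine le_antisymm (fun x hx => ?_) (le_inf S.Z_le_T le_sup_left)
  obtain ⟨x, rfl⟩ := S.T_le_H hx.1
  exact S.a_Z.2 ⟨(S.a_T.1 hx.1).1, (S.a_T.1 hx.1).2, (S.a_ZU.1 hx.2).2⟩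
theorem u_not_W : S.u ∉ S.W := fun h => S.two_ne (by
  have := (S.a_W.1 h).1; simp only [dg_00, dg_11, Units.val_one, Units.val_neg] at this; linear_combination this)
theorem u_not_Z : S.u ∉ S.Z := fun h => S.u_not_W (S.Z_le_W h)
theorem w_not_B : S.w ∉ S.T ⊔ S.U := fun h => one_ne_zero (S.a_B.1 h)
theorem w_not_T : S.w ∉ S.T := fun h => S.w_not_B (mem_sup_left h)

/-! ### fusion in `H` -/
theorem a_pc (h x : L2 F) : S.π h * S.π x * (S.π h)⁻¹ = S.π (h * x * h⁻¹) := by rw [map_mul, map_mul, map_inv]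

theorem fus_T {x h : G} (hx : x ∈ S.T) (hz : x ∉ S.Z) (hh : h ∈ S.H) (e : h * x * h⁻¹ ∈ S.T) :
    h ∈ S.T ∨ S.w * h ∈ S.T := by
  obtain ⟨x, rfl⟩ := S.T_le_H hx
  obtain ⟨h, rfl⟩ := hh
  obtain ⟨x1, x2⟩ := S.a_T.1 hx
  have n : x 0 0 - x 1 1 ≠ 0 := fun e => hz (S.a_Z.2 ⟨x1, x2, sub_eq_zero.1 e⟩)
  rw [a_pc] at e
  obtain ⟨g1, g2⟩ := S.a_T.1 e
  obtain ⟨e0, e1, e2, e3⟩ := a_ent (a_cj h x)
  simp only [mul_ent (h * x * h⁻¹), mul_ent h x, x1, x2, g1, g2] at e0 e1 e2 e3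
  have hd := det_ne h
  rw [w, ← map_mul, a_T, a_T]
  simp only [mul_ent, ww_00, ww_01, ww_10, ww_11, zero_mul, one_mul, zero_add, add_zero]
  have k1 : h 0 0 * h 0 1 = 0 := mul_left_cancel₀ n (by linear_combination h 0 0 * e1 - h 0 1 * e0)
  have k2 : h 1 0 * h 1 1 = 0 := mul_left_cancel₀ n (by linear_combination h 1 0 * e3 - h 1 1 * e2)
  by_cases c : h 0 0 = 0
  · right
    refine ⟨(mul_eq_zero.1 k2).resolve_left fun c' => hd (by rw [c, c']; ring), c⟩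
  · left
    have c1 := (mul_eq_zero.1 k1).resolve_left c
    exact ⟨c1, (mul_eq_zero.1 k2).resolve_right fun c' => hd (by rw [c1, c']; ring)⟩
theorem fus_W {x h : G} (hx : x ∈ S.W) (hz : x ∉ S.Z) (hh : h ∈ S.H) (e : h * x * h⁻¹ ∈ S.W) :
    h ∈ S.W ∨ S.u * h ∈ S.W := by
  obtain ⟨x, rfl⟩ := S.W_le_H hx
  obtain ⟨h, rfl⟩ := hh
  have n := S.a_W10 hx hz
  obtain ⟨x1, x2⟩ := S.a_W.1 hx
  rw [a_pc] at e
  obtain ⟨g1, g2⟩ := S.a_W.1 e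
  have ee := a_cj h x
  generalize h * x * h⁻¹ = g at *
  have t1 := a_tr_of ee
  have t2 := a_det_of ee
  obtain ⟨e0, -, e2, -⟩ := a_ent ee
  simp only [mul_ent, aTr, aDet, x1, x2, g1, g2] at e0 e2 t1 t2
  have k1 : g 1 1 = x 1 1 := mul_left_cancel₀ S.two_ne (by linear_combination t1)
  have k2 : g 1 0 * g 1 0 = x 1 0 * x 1 0 :=
    mul_left_cancel₀ S.ε_ne (by rw [k1] at t2; linear_combination -t2)
  rw [u, ← map_mul, a_W, a_W]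
  simp only [mul_ent, dg_00, dg_01, dg_10, dg_11, Units.val_one, Units.val_neg]
  rw [k1] at e0 e2
  rcases mul_self_eq_mul_self_iff.1 k2 with k | k <;> rw [k] at e0 e2
  · exact Or.inl ⟨mul_left_cancel₀ n (by linear_combination e2), mul_left_cancel₀ n (by linear_combination -e0)⟩
  · exact Or.inr ⟨mul_left_cancel₀ n (by linear_combination -e2), mul_left_cancel₀ n (by linear_combination -e0)⟩
theorem fus_TW {x h : G} (hx : x ∈ S.T) (hz : x ∉ S.Z) (hh : h ∈ S.H) : h * x * h⁻¹ ∉ S.W := by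
  obtain ⟨x, rfl⟩ := S.T_le_H hx
  obtain ⟨h, rfl⟩ := hh
  intro e
  rw [a_pc] at e
  obtain ⟨x1, x2⟩ := S.a_T.1 hx
  have n := S.a_W10 e fun k => hz (S.a_Z.2 (a_sc_of (a_cj h x) (S.a_Z.1 k)))
  obtain ⟨g1, g2⟩ := S.a_W.1 e
  have t := a_disc_of (a_cj h x)
  generalize h * x * h⁻¹ = g at *
  simp only [aDisc, aTr, aDet, x1, x2, g1, g2] at t
  have := S.two_ne
  exact S.nsq ⟨(x 0 0 - x 1 1) / (2 * g 1 0), by field_simp; linear_combination t⟩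
theorem a_zy {z y : G} (hz : z ∈ S.Z) (hy : y ∈ S.U) (h1 : y ≠ 1) :
    ∃ x : L2 F, z * y = S.π x ∧ ¬ aSc x ∧ aDisc x = 0 := by
  obtain ⟨c, rfl⟩ := S.mem_Z'.1 hz
  obtain ⟨a, rfl⟩ := S.mem_U'.1 hy
  refine ⟨dg (c, c) * xp a, (map_mul _ _ _).symm, fun h => S.a_xp_ne h1 (by simpa [mul_ent] using h.1), ?_⟩
  simp [aDisc, aTr, aDet, mul_ent]; ring
theorem fus_UT {z y h : G} (hz : z ∈ S.Z) (hy : y ∈ S.U) (h1 : y ≠ 1) (hh : h ∈ S.H) : h * (z * y) * h⁻¹ ∉ S.T := by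
  obtain ⟨x, ex, hs, hd⟩ := S.a_zy hz hy h1
  obtain ⟨h, rfl⟩ := hh
  intro e
  rw [ex, a_pc] at e
  obtain ⟨g1, g2⟩ := S.a_T.1 e
  rw [← a_disc_of (a_cj h x)] at hd
  simp only [aDisc, aTr, aDet, g1, g2] at hd
  exact hs (a_sc_of (a_cj h x) ⟨g1, g2, sub_eq_zero.1 (pow_eq_zero_iff two_ne_zero |>.1 (by linear_combination hd))⟩)
theorem fus_UW {z y h : G} (hz : z ∈ S.Z) (hy : y ∈ S.U) (h1 : y ≠ 1) (hh : h ∈ S.H) : h * (z * y) * h⁻¹ ∉ S.W := by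
  obtain ⟨x, ex, hs, hd⟩ := S.a_zy hz hy h1
  obtain ⟨h, rfl⟩ := hh
  intro e
  rw [ex, a_pc] at e
  have n := S.a_W10 e fun k => hs (a_sc_of (a_cj h x) (S.a_Z.1 k))
  obtain ⟨g1, g2⟩ := S.a_W.1 e
  rw [← a_disc_of (a_cj h x)] at hd
  simp only [aDisc, aTr, aDet, g1, g2] at hd
  exact mul_ne_zero (mul_ne_zero (mul_ne_zero S.two_ne S.two_ne) S.ε_ne) (mul_ne_zero n n) (by linear_combination hd)
theorem fus_U {z y z' y' h : G} (hz : z ∈ S.Z) (hy : y ∈ S.U) (h1 : y ≠ 1) (hz' : z' ∈ S.Z) (hy' : y' ∈ S.U)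
    (hh : h ∈ S.H) (e : h * (z * y) * h⁻¹ = z' * y') : z = z' ∧ h ∈ S.T ⊔ S.U := by
  obtain ⟨c, rfl⟩ := S.mem_Z'.1 hz
  obtain ⟨a, rfl⟩ := S.mem_U'.1 hy
  obtain ⟨c', rfl⟩ := S.mem_Z'.1 hz'
  obtain ⟨a', rfl⟩ := S.mem_U'.1 hy'
  obtain ⟨h, rfl⟩ := hh
  rw [← map_mul, ← map_mul S.π (dg _), a_pc] at e
  obtain ⟨k, hk, e⟩ := S.a_eq e
  have ee := a_cj h (dg (c, c) * xp a)
  rw [e] at ee
  have t := a_tr_of ee
  obtain ⟨-, -, -, e3⟩ := a_ent ee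
  simp only [aTr, mul_ent, dg_00, dg_01, dg_10, dg_11, xp_00, xp_01, xp_10, xp_11] at t e3
  have k1 : (k : F) * c' = c := mul_left_cancel₀ S.two_ne (by linear_combination t)
  obtain rfl : c = k * c' := Units.ext k1.symm
  refine ⟨by rw [show (k * c', k * c') = (k, k) * (c', c') from rfl, map_mul, map_mul, hk, one_mul], S.a_B.2 ?_⟩
  exact mul_left_cancel₀ (mul_ne_zero (k * c').ne_zero (S.a_xp_ne h1))
    (by simp only [Units.val_mul] at e3 ⊢; linear_combination -e3)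
theorem U_trans {y y' : G} (hy : y ∈ S.U) (h1 : y ≠ 1) (hy' : y' ∈ S.U) (h1' : y' ≠ 1) :
    ∃ x ∈ S.T, x * y * x⁻¹ = y' := by
  obtain ⟨a, rfl⟩ := S.mem_U'.1 hy
  obtain ⟨a', rfl⟩ := S.mem_U'.1 hy'
  have n := S.a_xp_ne h1
  refine ⟨_, ⟨(Units.mk0 _ (div_ne_zero (S.a_xp_ne h1') n), 1), rfl⟩, ?_⟩
  simp only [MonoidHom.comp_apply]
  rw [a_pc, a_dg_xp]
  simp [n]
theorem cj_w_U : cj S.w S.U = S.U' := by
  refine eq_of_le_of_card_eq (cj_le_iff'.2 ?_) (by rw [card_cj, card_U, card_U'])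
  rintro _ ⟨a, rfl⟩
  refine ⟨a, ?_⟩
  simp only [MonoidHom.comp_apply]
  rw [w, a_pc, a_ww_inv]
  exact congrArg _ (ext2 (by simp [mul_ent]) (by simp [mul_ent]) (by simp [mul_ent]) (by simp [mul_ent]))
theorem u_inv_U {y : G} (hy : y ∈ S.U) : S.u * y * S.u⁻¹ = y⁻¹ := by
  obtain ⟨a, rfl⟩ := S.mem_U'.1 hy
  rw [u, a_pc, a_dg_xp, ← map_inv, ← map_inv]
  simp
theorem a_unip {g : L2 F} (hs : ¬ aSc g) (hd : aDisc g = 0) :
    ∃ k : L2 F, ∃ z ∈ S.Z, ∃ y ∈ S.U, y ≠ 1 ∧ S.π k * S.π g * (S.π k)⁻¹ = z * y := by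
  have h2 := S.two_ne
  simp only [aDisc] at hd
  have hc : aTr g / 2 ≠ 0 := fun e => a_det_ne g (by
    have : aTr g = 0 := by simpa [h2] using e
    rw [this] at hd
    exact mul_left_cancel₀ (mul_ne_zero h2 h2) (by linear_combination -hd))
  obtain ⟨k, hk⟩ := a_conj (g' := dg (Units.mk0 _ hc, Units.mk0 _ hc) * xp (Multiplicative.ofAdd 1)) hs
    (fun h => hc (by simpa [mul_ent] using h.1)) (by simp [aTr, mul_ent]; field_simp; ring)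
    (by simp only [aDet, mul_ent] at hd ⊢; simp; field_simp; linear_combination -hd)
  refine ⟨k, _, ⟨Units.mk0 _ hc, rfl⟩, _, ⟨Multiplicative.ofAdd 1, rfl⟩, fun e => ?_, by rw [a_pc, hk, map_mul]; rfl⟩
  have := S.xp_inj (a₁ := Multiplicative.ofAdd 1) (a₂ := 1) (by simpa using e)
  simp at this
theorem classes {h : G} (hh : h ∈ S.H) : ∃ k ∈ S.H, k * h * k⁻¹ ∈ S.T ∨ k * h * k⁻¹ ∈ S.W ∨
    ∃ z ∈ S.Z, ∃ y ∈ S.U, y ≠ 1 ∧ k * h * k⁻¹ = z * y := by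
  obtain ⟨g, rfl⟩ := hh
  have h2 := S.two_ne
  by_cases hs : aSc g
  · exact ⟨1, one_mem _, Or.inl (by simpa using S.Z_le_T (S.a_Z.2 hs))⟩
  by_cases hd : aDisc g = 0
  · obtain ⟨k, h⟩ := S.a_unip hs hd
    exact ⟨_, ⟨k, rfl⟩, Or.inr (Or.inr h)⟩
  by_cases hq : IsSquare (aDisc g)
  · obtain ⟨s, hs'⟩ := hq
    have s0 : s ≠ 0 := fun e => hd (by rw [hs', e, mul_zero])
    have e : (aTr g + s) / 2 * ((aTr g - s) / 2) - 0 * 0 = aDet g := by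
      simp only [aDisc] at hs'; field_simp; linear_combination hs'
    obtain ⟨k, hk⟩ := a_conj (g' := m2 ((aTr g + s) / 2) 0 0 ((aTr g - s) / 2) (e ▸ a_det_ne g)) hs
      (fun h => s0 (by have := h.2.2; simp only [m2_00, m2_11] at this; field_simp at this; exact mul_left_cancel₀ h2 (by linear_combination this)))
      (by simp only [aTr, m2_00, m2_11]; field_simp; ring) e.symm
    exact ⟨_, ⟨k, rfl⟩, Or.inl (by rw [a_pc, hk]; exact S.a_T.2 ⟨rfl, rfl⟩)⟩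
  · have hc := a_char S.odd
    have : IsSquare (aDisc g * S.ε) := by
      rw [FiniteField.isSquare_iff hc (mul_ne_zero hd S.ε_ne), mul_pow,
        (FiniteField.pow_dichotomy hc hd).resolve_left fun h => hq ((FiniteField.isSquare_iff hc hd).2 h),
        (FiniteField.pow_dichotomy hc S.ε_ne).resolve_left fun h => S.nsq ((FiniteField.isSquare_iff hc S.ε_ne).2 h)]
      simp
    obtain ⟨s, hs'⟩ := this
    have s0 : s ≠ 0 := fun e => mul_ne_zero hd S.ε_ne (by rw [hs', e, mul_zero])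
    have e0 := S.ε_ne
    have e : aTr g / 2 * (aTr g / 2) - S.ε * (s / (2 * S.ε)) * (s / (2 * S.ε)) = aDet g := by
      simp only [aDisc] at hs'; field_simp; linear_combination hs'
    obtain ⟨k, hk⟩ := a_conj (g' := m2 (aTr g / 2) (S.ε * (s / (2 * S.ε))) (s / (2 * S.ε)) (aTr g / 2)
      (e ▸ a_det_ne g)) hs (fun h => s0 (by simpa [h2, e0] using h.2.1))
      (by simp only [aTr, m2_00, m2_11]; field_simp; ring) e.symm
    exact ⟨_, ⟨k, rfl⟩, Or.inr (Or.inl (by rw [a_pc, hk]; exact S.a_W.2 ⟨rfl, rfl⟩))⟩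
theorem inv_H {h : G} (hh : h ∈ S.H) (h2 : h * h = 1) (h1 : h ≠ 1) : h = S.t ∨ ∃ k ∈ S.H, h = k * S.u * k⁻¹ := by
  obtain ⟨g, rfl⟩ := hh
  rcases a_inv_H S.π S.ker S.two_ne h2 h1 with h | ⟨k, h⟩
  exacts [Or.inl h, Or.inr ⟨_, ⟨k, rfl⟩, h⟩]
theorem a_lift {h : G} (hh : h ∈ S.H) (h2 : h * h = 1) : ∃ g, S.π g = h ∧ g * g = 1 := by
  obtain ⟨g, rfl⟩ := hh
  obtain ⟨e, h⟩ := a_lift_sq S.π S.ker h2
  exact ⟨_, h⟩
theorem inv_T {h : G} (hh : h ∈ S.T) (h2 : h * h = 1) : h = 1 ∨ h = S.t ∨ h = S.u ∨ h = S.t * S.u := by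
  obtain ⟨g, rfl, e⟩ := S.a_lift (S.T_le_H hh) h2
  obtain ⟨⟨a, b⟩, rfl⟩ := exists_dg (S.a_T.1 hh).1 (S.a_T.1 hh).2
  obtain ⟨e0, -, -, e3⟩ := a_ent e
  simp only [mul_ent, dg_00, dg_01, dg_10, dg_11, one_00, one_11, mul_zero, add_zero, zero_add] at e0 e3
  have ha : a = 1 ∨ a = -1 := (mul_self_eq_one_iff.1 e0).imp Units.ext Units.ext
  have hb : b = 1 ∨ b = -1 := (mul_self_eq_one_iff.1 e3).imp Units.ext Units.ext
  rcases ha with rfl | rfl <;> rcases hb with rfl | rfl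
  · left; rw [Prod.mk_one_one, map_one, map_one]
  · exact Or.inr (Or.inr (Or.inl rfl))
  · exact Or.inr (Or.inr (Or.inr S.tu_eq.symm))
  · exact Or.inr (Or.inl rfl)
theorem a_inv_Z {h : G} (hh : h ∈ S.Z) (h2 : h * h = 1) : h = 1 ∨ h = S.t := by
  rcases S.inv_T (S.Z_le_T hh) h2 with h | h | rfl | rfl
  exacts [Or.inl h, Or.inr h, absurd hh S.u_not_Z, absurd ((mul_mem_cancel_left S.t_Z).1 hh) S.u_not_Z]
theorem inv_W {h : G} (hh : h ∈ S.W) (h2 : h * h = 1) : h = 1 ∨ h = S.t := by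
  refine S.a_inv_Z ?_ h2
  obtain ⟨g, rfl, e⟩ := S.a_lift (S.W_le_H hh) h2
  by_contra hz
  have n := S.a_W10 hh hz
  obtain ⟨g1, g2⟩ := S.a_W.1 hh
  obtain ⟨e0, -, e2, -⟩ := a_ent e
  simp only [mul_ent, one_00, one_10, g1, g2] at e0 e2
  have k : g 1 1 = 0 := mul_left_cancel₀ (mul_ne_zero S.two_ne n) (by linear_combination e2)
  exact S.nsq ⟨1 / g 1 0, by field_simp; rw [k] at e0; linear_combination e0⟩
theorem inv_ZU {h : G} (hh : h ∈ S.Z ⊔ S.U) (h2 : h * h = 1) : h = 1 ∨ h = S.t := by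
  refine S.a_inv_Z ?_ h2
  obtain ⟨g, rfl, e⟩ := S.a_lift ((sup_le (S.Z_le_T.trans S.T_le_H) S.U_le_H) hh) h2
  obtain ⟨g1, g2⟩ := S.a_ZU.1 hh
  obtain ⟨e0, e1, -, -⟩ := a_ent e
  simp only [mul_ent, one_00, one_01, g1, g2] at e0 e1
  have k : g 1 1 ≠ 0 := fun k => by rw [k] at e0; simp at e0
  exact S.a_Z.2 ⟨mul_left_cancel₀ (mul_ne_zero S.two_ne k) (by linear_combination e1), g1, g2⟩

/-! ### the tori -/
theorem cyc_W : IsCyclic S.W := PG.isCyclic_map _ (a_cyc_WW S.nsq)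
theorem cyc_Z : IsCyclic S.Z := isCyclic_of_surjective _ (MonoidHom.rangeRestrict_surjective _)
theorem cyc_Tm : IsCyclic S.Tm := isCyclic_of_surjective _ (MonoidHom.rangeRestrict_surjective _)
theorem a_u_ent (g : L2 F) : (dg (1, -1) * g * (dg (1, -1))⁻¹ : L2 F) 0 0 = g 0 0 ∧
    (dg (1, -1) * g * (dg (1, -1))⁻¹ : L2 F) 0 1 = -g 0 1 ∧ (dg (1, -1) * g * (dg (1, -1))⁻¹ : L2 F) 1 0 = -g 1 0 ∧
    (dg (1, -1) * g * (dg (1, -1))⁻¹ : L2 F) 1 1 = g 1 1 := by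
  rw [a_u_inv]; simp [mul_ent]
theorem u_W_pow {x : G} (hx : x ∈ S.W) : S.u * x * S.u⁻¹ = x ^ 𝔮 := by
  obtain ⟨g, hg, rfl⟩ := hx
  obtain ⟨g1, g2⟩ := (Hyp.mem_WW S.ε_ne).1 hg
  obtain ⟨k0, k1, k2, k3⟩ := a_u_ent g
  have hm : dg (1, -1) * g * (dg (1, -1))⁻¹ ∈ WW S.ε := (Hyp.mem_WW S.ε_ne).2 ⟨by rw [k0, k3, g1], by rw [k1, k2, g2]; ring⟩
  have := aQ_inj S.ε_ne (a₁ := ⟨_, hm⟩) (a₂ := ⟨g, hg⟩ ^ 𝔮) (by
    rw [map_pow]
    exact (QuadraticAlgebra.ext k0 k2).trans (a_frob S.odd S.nsq (g 0 0) (g 1 0)).symm)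
  rw [u, a_pc, ← map_pow]
  exact congrArg _ (congrArg Subtype.val this)
theorem a_w_dg (a b : Fˣ) : S.w * S.π (dg (a, b)) * S.w⁻¹ = S.π (dg (b, a)) := by
  rw [w, ← map_mul, ww_dg, map_mul, mul_inv_cancel_right]
theorem mem_Tm {x : G} : x ∈ S.Tm ↔ x ∈ S.T ∧ S.w * x * S.w⁻¹ = x⁻¹ := by
  refine ⟨fun h => ⟨S.Tm_le_T h, ?_⟩, fun ⟨h, e⟩ => ?_⟩
  · obtain ⟨c, rfl⟩ := S.mem_Tm'.1 h
    rw [a_w_dg, ← map_inv, ← map_inv]; simp
  · obtain ⟨⟨a, b⟩, rfl⟩ := S.mem_T'.1 h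
    rw [a_w_dg, eq_inv_iff_mul_eq_one, ← map_mul, ← map_mul, Prod.mk_mul_mk, mul_comm b] at e
    obtain ⟨c, h1, h2⟩ := a_sqrt' S.π S.ker e
    refine S.mem_Tm'.2 ⟨a * c⁻¹, ?_⟩
    have : (a, b) = (a * c⁻¹, (a * c⁻¹)⁻¹) * (c, c) :=
      Prod.ext (by simp) (by simp only [Prod.mk_mul_mk]; rw [eq_comm, inv_mul_eq_iff_eq_mul, mul_right_comm, ← h2]; simp)
    rw [this, map_mul, map_mul, h1, mul_one]
theorem a_u_mul {g : L2 F} (g1 : g 0 0 = g 1 1) : dg (1, -1) * g * (dg (1, -1))⁻¹ * g =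
    dg (GeneralLinearGroup.det g, GeneralLinearGroup.det g) := by
  obtain ⟨k0, k1, k2, k3⟩ := a_u_ent g
  refine ext2 ?_ ?_ ?_ ?_ <;> simp only [mul_ent _ g, k0, k1, k2, k3, dg_00, dg_01, dg_10, dg_11, a_det_val, aDet, g1] <;>
    ring
theorem mem_Wm {x : G} : x ∈ S.Wm ↔ x ∈ S.W ∧ S.u * x * S.u⁻¹ = x⁻¹ := by
  refine ⟨fun h => ⟨S.Wm_le_W h, ?_⟩, fun ⟨h, e⟩ => ?_⟩
  · obtain ⟨g, ⟨h1, h2⟩, rfl⟩ := h
    rw [u, a_pc, eq_inv_iff_mul_eq_one, ← map_mul, a_u_mul ((Hyp.mem_WW S.ε_ne).1 h1).1, MonoidHom.mem_ker.1 h2,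
      Prod.mk_one_one, map_one, map_one]
  · obtain ⟨g, hg, rfl⟩ := h
    rw [u, a_pc, eq_inv_iff_mul_eq_one, ← map_mul, a_u_mul ((Hyp.mem_WW S.ε_ne).1 hg).1] at e
    obtain ⟨c, h1, h2⟩ := a_sqrt' S.π S.ker e
    refine ⟨(dg (c, c))⁻¹ * g, Subgroup.mem_inf.2 ⟨mul_mem (inv_mem ((Hyp.mem_WW S.ε_ne).2 (by simp))) hg,
      MonoidHom.mem_ker.2 ?_⟩, by rw [map_mul, map_inv, h1, inv_one, one_mul]⟩
    rw [map_mul, map_inv, a_det_dg, h2, inv_mul_cancel]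
theorem mem_Z_T {x : G} : x ∈ S.Z ↔ x ∈ S.T ∧ S.w * x * S.w⁻¹ = x := by
  refine ⟨fun h => ⟨S.Z_le_T h, by rw [← S.Z_comm h S.w_H, mul_inv_cancel_right]⟩, fun ⟨h, e⟩ => ?_⟩
  by_contra hz
  exact S.w_not_T (S.cent_T h hz S.w_H (mul_inv_eq_iff_eq_mul.1 e))
theorem mem_Z_W {x : G} : x ∈ S.Z ↔ x ∈ S.W ∧ S.u * x * S.u⁻¹ = x := by
  refine ⟨fun h => ⟨S.Z_le_W h, by rw [← S.Z_comm h (S.T_le_H S.u_T), mul_inv_cancel_right]⟩, fun ⟨h, e⟩ => ?_⟩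
  by_contra hz
  exact S.u_not_W (S.cent_W h hz (S.T_le_H S.u_T) (mul_inv_eq_iff_eq_mul.1 e))
theorem Tm_h90 {x : G} (hx : x ∈ S.Tm) : ∃ y ∈ S.T, x = S.w * y * S.w⁻¹ * y⁻¹ := by
  obtain ⟨c, rfl⟩ := S.mem_Tm'.1 hx
  refine ⟨S.π (dg (1, c)), ⟨_, rfl⟩, ?_⟩
  rw [a_w_dg, ← map_inv, ← map_inv, ← map_mul, ← map_mul]; simp
theorem Wm_h90 {x : G} (hx : x ∈ S.Wm) : ∃ y ∈ S.W, x = S.u * y * S.u⁻¹ * y⁻¹ := by
  obtain ⟨g, ⟨h1, h2⟩, rfl⟩ := hx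
  obtain ⟨g1, g2⟩ := (Hyp.mem_WW S.ε_ne).1 h1
  have hd : aDet g = 1 := a_det_one.1 h2
  simp only [aDet, g1, g2] at hd
  have : ∃ y : L2 F, (y 0 0 = y 1 1 ∧ y 0 1 = S.ε * y 1 0) ∧ g * y = dg (1, -1) * y * (dg (1, -1))⁻¹ := by
    by_cases h : 1 + g 1 1 ≠ 0 ∨ -g 1 0 ≠ 0
    · refine ⟨m2 _ _ _ _ (a_W_ne S.nsq h), ⟨rfl, rfl⟩, ?_⟩
      rw [a_u_inv]
      refine ext2 ?_ ?_ ?_ ?_ <;> simp [mul_ent, g1, g2]
      all_goals first | linear_combination hd | ring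
    · push Not at h
      refine ⟨m2 0 S.ε 1 0 (by simpa using S.ε_ne), ⟨rfl, by simp⟩, ?_⟩
      have k1 : g 1 1 = -1 := by linear_combination h.1
      have k2 : g 1 0 = 0 := by linear_combination -h.2
      rw [a_u_inv]
      refine ext2 ?_ ?_ ?_ ?_ <;> simp [mul_ent, g1, g2, k1, k2]
  obtain ⟨y, hy, e⟩ := this
  exact ⟨S.π y, S.a_W.2 hy, by rw [u, a_pc, ← e, map_mul, mul_inv_cancel_right]⟩
theorem t_Tm : S.t ∈ S.Tm := S.mem_Tm'.2 ⟨-1, by simp [t]⟩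
theorem t_Wm : S.t ∈ S.Wm :=
  ⟨dg (-1, -1), Subgroup.mem_inf.2 ⟨(Hyp.mem_WW S.ε_ne).2 (by simp), MonoidHom.mem_ker.2 (by rw [a_det_dg]; simp)⟩, rfl⟩

theorem a_lin (β : Du S.H) {g : L2 F} (h : GeneralLinearGroup.det g = 1) : β.hom ⟨S.π g, g, rfl⟩ = 1 := by
  have h1 : g ∈ commutator (L2 F) := by
    rw [Lin.commutator_GL_eq_ker_det fun _ => ⟨-1, by simp, fun e => S.neg_one_ne (Units.ext e)⟩]; exact h
  exact Abelianization.commutator_subset_ker (β.hom.comp S.π.rangeRestrict) h1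

theorem a_inj {A : Subgroup G} (hA : A ≤ S.H) (hd : ∀ c, ∃ g, S.π g ∈ A ∧ GeneralLinearGroup.det g = c) :
    Function.Injective (Du.comp (inclusion hA)) := by
  refine (injective_iff_map_eq_one _).2 fun β h => Du.ext' ?_
  rintro ⟨_, g, rfl⟩
  obtain ⟨k, hk, e⟩ := hd (GeneralLinearGroup.det g)
  have h1 := S.a_lin β (g := g * k⁻¹) (by rw [map_mul, map_inv, e, mul_inv_cancel])
  have h2 : β.hom ⟨S.π k, k, rfl⟩ = 1 := DFunLike.congr_fun (congrArg Du.hom h) (⟨_, hk⟩ : A)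
  have h3 : (⟨S.π g, g, rfl⟩ : S.H) = ⟨S.π (g * k⁻¹), _, rfl⟩ * ⟨S.π k, k, rfl⟩ := Subtype.ext (by simp)
  rw [Du.ch_apply, h3, map_mul, h1, h2]; simp

theorem a_ext {A : Subgroup G} (hA : A ≤ S.H) (hd : ∀ c, ∃ g, S.π g ∈ A ∧ GeneralLinearGroup.det g = c) (l : Du A)
    (h : ∀ g (hg : S.π g ∈ A), GeneralLinearGroup.det g = 1 → l.ch ⟨_, hg⟩ = 1) :
    ∃ β : Du S.H, Du.comp (inclusion hA) β = l := by
  obtain ⟨μ, hμ⟩ := a_lift_hom (GeneralLinearGroup.det.comp (A.comap S.π).subtype)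
    (fun c => let ⟨g, hg, e⟩ := hd c; ⟨⟨g, hg⟩, e⟩) (l.hom.comp (S.π.subgroupComap A))
    (fun x hx => Units.ext (h x x.2 hx))
  obtain ⟨β, hβ⟩ := a_lift_hom S.π.rangeRestrict S.π.rangeRestrict_surjective (μ.comp GeneralLinearGroup.det)
    (fun g hg => by
      have e : S.π g = 1 := congrArg Subtype.val hg
      have hg' : g ∈ A.comap S.π := by rw [mem_comap, e]; exact one_mem _
      refine (hμ ⟨g, hg'⟩).trans ?_
      rw [MonoidHom.comp_apply, show S.π.subgroupComap A ⟨g, hg'⟩ = 1 from Subtype.ext e, map_one])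
  refine ⟨Du.mk β, Du.ext' fun x => ?_⟩
  obtain ⟨x, hx⟩ := x
  obtain ⟨g, rfl⟩ := hA hx
  exact congrArg Units.val ((hβ g).trans (hμ ⟨g, hx⟩))

theorem a_dT (c : Fˣ) : ∃ g, S.π g ∈ S.T ∧ GeneralLinearGroup.det g = c :=
  ⟨dg (c, 1), ⟨_, rfl⟩, by rw [a_det_dg, mul_one]⟩
theorem a_dW (c : Fˣ) : ∃ g, S.π g ∈ S.W ∧ GeneralLinearGroup.det g = c :=
  let ⟨g, hg, e⟩ := a_norm_surj S.odd S.nsq c; ⟨g, mem_map_of_mem _ hg, e⟩

theorem ext_T (l : Du S.T) (h : ∀ x : S.T, (x : G) ∈ S.Tm → l.ch x = 1) :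
    ∃ β : Du S.H, Du.comp (inclusion S.T_le_H) β = l :=
  S.a_ext _ S.a_dT l fun g hg hd => h _ (by
    obtain ⟨⟨a, b⟩, rfl⟩ := exists_dg (S.a_T.1 hg).1 (S.a_T.1 hg).2
    rw [a_det_dg] at hd
    obtain rfl := eq_inv_of_mul_eq_one_right hd
    exact ⟨a, rfl⟩)
theorem ext_W (l : Du S.W) (h : ∀ x : S.W, (x : G) ∈ S.Wm → l.ch x = 1) :
    ∃ β : Du S.H, Du.comp (inclusion S.W_le_H) β = l :=
  S.a_ext _ S.a_dW l fun _ hg hd => h _
    (mem_map_of_mem _ (Subgroup.mem_inf.2 ⟨(Hyp.mem_WW S.ε_ne).2 (S.a_W.1 hg), MonoidHom.mem_ker.2 hd⟩))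
theorem inj_T : Function.Injective (Du.comp (inclusion S.T_le_H)) := S.a_inj _ S.a_dT
theorem inj_W : Function.Injective (Du.comp (inclusion S.W_le_H)) := S.a_inj _ S.a_dW

/-! ### the Borel subgroup -/
theorem a_y0 : S.π (xp (Multiplicative.ofAdd 1)) ≠ 1 := fun e => by
  have := S.xp_inj (a₁ := Multiplicative.ofAdd 1) (a₂ := 1) (by simpa using e)
  simp at this
theorem a_B_norm : S.T ⊔ S.U ≤ 𝐍(S.U) := sup_le S.T_norm_U le_normalizer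
theorem a_fus {y h : G} (hy : y ∈ S.U) (h1 : y ≠ 1) (hh : h ∈ S.H) (e : h * y * h⁻¹ ∈ S.U) : h ∈ S.T ⊔ S.U :=
  (S.fus_U (one_mem _) hy h1 (one_mem _) e hh (by rw [one_mul, one_mul])).2
theorem norm_U : S.H ⊓ 𝐍(S.U) = S.T ⊔ S.U :=
  le_antisymm (fun _ h => S.a_fus ⟨_, rfl⟩ S.a_y0 h.1 (conj_mem_of_mem_normalizer h.2 ⟨_, rfl⟩))
    (le_inf (sup_le S.T_le_H S.U_le_H) S.a_B_norm)
theorem a_bruhat {h : G} (hh : h ∈ S.H) (hB : h ∉ S.T ⊔ S.U) : ∃ y ∈ S.U, S.w * (y * h) ∈ S.T ⊔ S.U := by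
  obtain ⟨g, rfl⟩ := hh
  have n : g 1 0 ≠ 0 := fun e => hB (S.a_B.2 e)
  refine ⟨S.π (xp (Multiplicative.ofAdd (-g 0 0 / g 1 0))), ⟨_, rfl⟩, ?_⟩
  rw [w, ← map_mul, ← map_mul, a_B]
  simp [mul_ent, n]
theorem B_max {X : Subgroup G} (h1 : S.T ⊔ S.U ≤ X) {x : G} (hx : x ∈ X) (hH : x ∈ S.H) (hB : x ∉ S.T ⊔ S.U) :
    S.H ≤ X := fun h hh => by
  have hU : S.U ≤ X := le_sup_right.trans h1
  obtain ⟨y, hy, e⟩ := S.a_bruhat hH hB
  have hw : S.w ∈ X := (mul_mem_cancel_right (mul_mem (hU hy) hx)).1 (h1 e)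
  by_cases hB' : h ∈ S.T ⊔ S.U
  · exact h1 hB'
  obtain ⟨y, hy, e⟩ := S.a_bruhat hh hB'
  exact (mul_mem_cancel_left (hU hy)).1 ((mul_mem_cancel_left hw).1 (h1 e))

instance instCommU : IsMulCommutative S.U := ⟨⟨by
  rintro ⟨_, a, rfl⟩ ⟨_, b, rfl⟩
  exact Subtype.ext ((map_mul _ a b).symm.trans ((congrArg _ (mul_comm a b)).trans (map_mul _ b a)))⟩⟩

theorem a_q1 : ((𝔮 - 1 : ℕ) : ℤ) = 𝔮 - 1 := by rw [Nat.cast_sub Fintype.card_pos]; rfl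

/-- the abstract facts -/
noncomputable def toHA : HA G where
  q := 𝔮
  e := 1
  he := Or.inl rfl
  p := ringChar F
  f := (FiniteField.card F (ringChar F)).choose
  hp := (FiniteField.card F (ringChar F)).choose_spec.1
  hf := (FiniteField.card F (ringChar F)).choose.2
  hq := (FiniteField.card F (ringChar F)).choose_spec.2
  odd := S.odd
  t := S.t
  u := S.u
  w := S.w
  H := S.H
  T := S.T
  W := S.W
  Z := S.Z
  U := S.U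
  Tm := S.Tm
  Wm := S.Wm
  H_eq := S.H_eq
  tt := S.tt
  uu := S.uu
  ww' := S.ww'
  ut := S.ut
  wt := S.wt
  wu := S.wu
  t_ne := S.t_ne
  mem_T := S.mem_T
  W_le_H := S.W_le_H
  U_le_H := S.U_le_H
  t_Z := S.t_Z
  Z_comm := S.Z_comm
  commT := S.instCommT
  commU := S.instCommU
  cyc_W := S.cyc_W
  cyc_Tm := S.cyc_Tm
  card_T := by rw [S.card_T, Nat.cast_mul, a_q1]; rfl
  card_W := by rw [S.card_W, Nat.cast_mul]; rfl
  card_U := S.card_U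
  card_H := by rw [S.card_H, d]; push_cast [a_q1]; ring
  d_dvd := let ⟨k, h, e⟩ := S.d_dvd; ⟨k, h, by rw [← a_q1, e, Nat.cast_mul]; rfl⟩
  card_Tm := by rw [S.card_Tm, a_q1]
  card_Wm := by rw [S.card_Wm]; rfl
  cent_T := S.cent_T
  cent_W := S.cent_W
  cent_U := S.cent_U
  T_inf_W := S.T_inf_W
  Z_inf_U := eq_bot_iff.2 ((inf_le_inf_right _ S.Z_le_T).trans S.T_inf_U.le)
  u_not_W := S.u_not_W
  fus_T := S.fus_T
  fus_W := S.fus_W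
  fus_TW := S.fus_TW
  fus_UT := S.fus_UT
  fus_UW := S.fus_UW
  fus_U := fun a b c d e f g => (S.fus_U a b c d e f g).imp_right fun h => S.a_B_norm h
  U_trans := fun a b c d => let ⟨x, h, e⟩ := S.U_trans a b c d; ⟨x, S.T_le_H h, e⟩
  borel := Or.inl ⟨rfl, S.norm_U, fun _ => S.u_inv_U⟩
  card_B := by rw [S.norm_U, S.card_B, d]; push_cast [a_q1]; ring
  classes := S.classes
  inv_T := S.inv_T
  u_W_pow := fun h => by rw [S.u_W_pow h, one_mul, zpow_natCast]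
  mem_Tm := S.mem_Tm
  mem_Wm := S.mem_Wm
  mem_Z_T := S.mem_Z_T
  mem_Z_W := S.mem_Z_W
  Tm_h90 := S.Tm_h90
  Wm_h90 := S.Wm_h90
  ext_T := fun _ => S.ext_T
  ext_W := S.ext_W
  inj_T := fun _ => S.inj_T
  inj_W := S.inj_W


end HyL

theorem exists_HA_gl (hF : Odd 𝔮) (Z : Subgroup (GL (Fin 2) F)) [Z.Normal]
    (hZc : Z ≤ center (GL (Fin 2) F)) (hZo : Odd (Nat.card Z)) (e : G ≃* (GL (Fin 2) F ⧸ Z)) :
    ∃ S : HA G, S.H = ⊤ ∧ S.q = 𝔮 ∧ S.e = 1 := by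
  have two : (2 : F) ≠ 0 := SL2.two_ne_zero_of_odd hF
  let π : L2 F →* G := e.symm.toMonoidHom.comp (QuotientGroup.mk' Z)
  have hs : Function.Surjective π := e.symm.surjective.comp (QuotientGroup.mk'_surjective Z)
  have hr : π.range = ⊤ := MonoidHom.range_eq_top.2 hs
  have ker : ∀ g, π g = 1 → ∃ c : Fˣ, Odd (orderOf c) ∧ g = dg (c, c) := fun g hg => by
    have h1 : g ∈ Z := (QuotientGroup.eq_one_iff g).1 (e.symm.map_eq_one_iff.1 hg)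
    obtain ⟨-, e1, e2, -⟩ := a_ent (mem_center_iff.1 (hZc h1) (dg (1, -1)))
    obtain ⟨-, e3, -, -⟩ := a_ent (mem_center_iff.1 (hZc h1) ww)
    simp only [mul_ent, dg_00, dg_01, dg_10, dg_11, ww_00, ww_01, ww_11, Units.val_one, Units.val_neg] at e1 e2 e3
    obtain ⟨c, rfl⟩ := a_sc_dg (g := g) ⟨mul_left_cancel₀ two (by linear_combination e1),
      mul_left_cancel₀ two (by linear_combination -e2), by linear_combination -e3⟩
    refine ⟨c, ?_, rfl⟩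
    rw [← orderOf_injective (aS : Fˣ →* L2 F) (fun a b e => (Prod.ext_iff.1 (dg_injective e)).1) c]
    exact hZo.of_dvd_nat (Subgroup.orderOf_dvd_natCard Z h1)
  obtain ⟨ε, hε⟩ := FiniteField.exists_nonsquare (a_char hF)
  let S : HyL G F := ⟨π, hF, ker, hr.trans (eq_top_iff.2 fun x _ => by
    obtain ⟨g, rfl⟩ := hs x
    rw [mem_cent1_iff, ← map_mul, ← map_mul, sc_comm]).symm, ε, hε⟩
  exact ⟨S.toHA, hr, rfl, rfl⟩

end CA.ABG
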