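/-
Alperin–Brauer–Gorenstein, character theory: class functions of `H = GL₂^ε(q)/Z`.
-/
import Cfsg.Agent.Lib.ABG.HA
import Cfsg.Agent.Lib.Br.Om4

set_option autoImplicit false
set_option linter.unusedSectionVars false
set_option maxHeartbeats 400000

namespace CA.ABG.HO

open Cfsg Subgroup CA CA.Ch CA.Br Finset ComplexConjugate
open CA.Br.OmB (inv_unique exists_inv not_odd_of_inv zp_conj zp_conj_iff zp_mul_odd zp_mul_odd_iff comm_of_zp
  sirr_pi0 sirr_pi0' conj_sq)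

variable {G : Type*} [Group G] [Finite G] (S : HA G)

theorem exists_y0 : ∃ y : S.U, y ≠ 1 := by
  have : Nontrivial S.U := Finite.one_lt_card_iff_nontrivial.1 (by rw [S.card_U]; have := S.three_le; omega)
  exact exists_ne 1

theorem exists_psi : ∃ ψ : Du S.U, ψ ≠ 1 := by
  obtain ⟨y, hy⟩ := exists_y0 S
  obtain ⟨a, -, ha⟩ := Du.exists_ne_one (⊥ : Subgroup S.U) (g := y) (by simpa using hy)
  exact ⟨a, fun h => ha (by rw [h]; rfl)⟩

/-- a non-trivial character of `U` -/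
noncomputable def psi : Du S.U := (exists_psi S).choose

theorem sum_psi [Fintype S.U] : ∑ a, (psi S).ch a = 0 := by
  have h := Du.ip_ch_one (psi S)
  rw [if_neg (show psi S ≠ 1 from (exists_psi S).choose_spec), ip_one_right] at h
  exact (mul_eq_zero.1 h).resolve_left (inv_ne_zero (by exact_mod_cast Nat.card_pos.ne'))

theorem q_ne : (S.q : ℂ) ≠ 0 := by have := S.three_le; exact_mod_cast (by omega : S.q ≠ 0)
theorem Z_le_H : S.Z ≤ S.H := S.Z_le_T.trans S.T_le_H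
theorem d_ne : (S.d : ℂ) ≠ 0 := by exact_mod_cast Nat.card_pos.ne'
theorem card_H_cast : (Nat.card S.H : ℂ) = S.q * (S.q ^ 2 - 1) * S.d := by exact_mod_cast S.card_H
theorem e_sq : (S.e : ℂ) * S.e = 1 := by exact_mod_cast S.e_sq
theorem Q_cast : (S.Q : ℂ) = S.e * S.q := by simp [HA.Q]

/-- `Z → H` -/
noncomputable abbrev zH : S.Z →* S.H := inclusion (Z_le_H S)
theorem zH_comm (z : S.Z) (h : S.H) : zH S z * h = h * zH S z := Subtype.ext (S.Z_comm z.2 h.2)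

/-- `Z × U → H` -/
noncomputable def ι : S.Z × S.U →* S.H :=
  MonoidHom.mk' (fun p => ⟨p.1 * p.2, S.H.mul_mem (Z_le_H S p.1.2) (S.U_le_H p.2.2)⟩) fun a b => Subtype.ext (by
    simp only [Prod.fst_mul, Prod.snd_mul, Subgroup.coe_mul]
    rw [mul_assoc, mul_assoc, ← mul_assoc (b.1 : G), S.Z_comm b.1.2 (S.U_le_H a.2.2), mul_assoc])

theorem ι_coe (p : S.Z × S.U) : (ι S p : G) = p.1 * p.2 := rfl
theorem ι_one (z : S.Z) : ι S (z, 1) = zH S z := Subtype.ext (by simp [ι_coe])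

instance instEmbι : Emb (ι S) := ⟨(injective_iff_map_eq_one _).2 fun p hp => by
  have e : (p.1 : G) * p.2 = 1 := congrArg Subtype.val hp
  have h1 : (p.2 : G) ∈ S.Z ⊓ S.U := ⟨by rw [eq_inv_of_mul_eq_one_right e]; exact S.Z.inv_mem p.1.2, p.2.2⟩
  rw [S.Z_inf_U, mem_bot] at h1
  rw [h1, mul_one] at e
  exact Prod.ext (Subtype.ext e) (Subtype.ext h1)⟩

/-- a fixed non-trivial unipotent element -/
noncomputable def y0 : S.H := inclusion S.U_le_H (exists_y0 S).choose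
theorem y0_U : (y0 S : G) ∈ S.U := (exists_y0 S).choose.2
theorem y0_ne : (y0 S : G) ≠ 1 := fun h => (exists_y0 S).choose_spec (Subtype.ext h)

theorem conj_y0 (z : S.Z) {y : S.H} (hy : (y : G) ∈ S.U) (h1 : (y : G) ≠ 1) :
    IsConj (zH S z * y0 S) (zH S z * y) := by
  obtain ⟨x, hx, e⟩ := S.U_trans (y0_U S) (y0_ne S) hy h1
  refine isConj_iff.2 ⟨⟨x, hx⟩, ?_⟩
  rw [← mul_assoc, ← zH_comm, mul_assoc, mul_assoc]
  congr 1
  exact Subtype.ext (by rw [← e]; simp [mul_assoc])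

theorem conj_ι (z : S.Z) {a : S.U} (h : a ≠ 1) : IsConj (zH S z * y0 S) (ι S (z, a)) :=
  conj_y0 S z (y := ⟨a, S.U_le_H a.2⟩) a.2 fun e => h (Subtype.ext e)

theorem mem_Z_of_conj {x h : G} (hh : h ∈ S.H) (e : h * x * h⁻¹ ∈ S.Z) : x ∈ S.Z := by
  have := S.Z_comm e hh
  rwa [show x = h * x * h⁻¹ by
    calc x = h⁻¹ * (h * x * h⁻¹ * h) := by group
      _ = _ := by rw [this]; group]

/-- the Gelfand-Graev functions -/
noncomputable def Gam : (S.Z → ℂ) →ₗ[ℂ] (S.H → ℂ) where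
  toFun ζ := ind (ι S) fun p => ζ p.1 * (psi S).ch p.2
  map_add' a b := by rw [← map_add]; congr 1; ext p; simp [add_mul]
  map_smul' c a := by rw [← map_smul]; congr 1; ext p; simp [mul_assoc]

theorem Gam_def (ζ : S.Z → ℂ) : Gam S ζ = ind (ι S) fun p => ζ p.1 * (psi S).ch p.2 := rfl
theorem isCF_Gam (ζ : S.Z → ℂ) : IsCF (Gam S ζ) := isCF_ind _ _
theorem isVC_Gam {ζ : S.Z → ℂ} (h : IsVC ζ) : IsVC (Gam S ζ) := by
  have h1 := h.comp (MonoidHom.fst S.Z S.U)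
  have h2 := (psi S).isVC.comp (MonoidHom.snd S.Z S.U)
  exact (h1.mul h2).induce (ι S)

theorem card_ZF : (Nat.card (S.Z × S.U) : ℂ) = S.d * S.q := by
  rw [Nat.card_prod, S.card_U]; simp [HA.d]

/-- the adjoint of `Gam` -/
noncomputable def j (f : S.H → ℂ) : S.Z → ℂ := fun z => (f (zH S z) - f (zH S z * y0 S)) / S.q

theorem ip_Gam (ζ : S.Z → ℂ) {f : S.H → ℂ} (hf : IsCF f) : ⟪Gam S ζ, f⟫ = ⟪ζ, j S f⟫ := by
  classical
  have := Fintype.ofFinite S.Z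
  have := Fintype.ofFinite S.U
  rw [Gam_def, ip_ind_left _ _ hf, ip_def, ip_def, card_ZF, Fintype.sum_prod_type, mul_inv, mul_assoc,
    Finset.mul_sum _ _ (S.q : ℂ)⁻¹]
  congr 1
  refine Finset.sum_congr rfl fun z _ => ?_
  have h1 := sum_psi S
  rw [← Finset.add_sum_erase _ _ (Finset.mem_univ 1)] at h1 ⊢
  rw [Finset.sum_congr rfl (g := fun a => (psi S).ch a * (ζ z * conj (f (zH S z * y0 S)))) fun a ha => by
    rw [Function.comp_apply, ← hf.of_isConj (conj_ι S z (Finset.ne_of_mem_erase ha))]; ring, ← Finset.sum_mul,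
    eq_neg_of_add_eq_zero_right h1]
  simp only [j, Function.comp_apply, ι_one, Du.ch_apply_one, map_div₀, map_sub, map_natCast]
  ring

theorem Gam_Z (ζ : S.Z → ℂ) (z : S.Z) : Gam S ζ (zH S z) = (S.q ^ 2 - 1) * ζ z := by
  rw [Gam_def, ← ι_one, ind_central _ _ _ fun g => by rw [ι_one, zH_comm], card_ZF, card_H_cast]
  have := d_ne S; have := q_ne S
  simp only [Du.ch_apply_one]
  field_simp

theorem card_cent_y0 (z : S.Z) : Nat.card 𝐂[zH S z * y0 S] = S.q * S.d := by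
  rw [HA.d, ← S.card_ZU, ← Nat.card_congr (subgroupOfEquivOfLe (sup_le (Z_le_H S) S.U_le_H)).toEquiv]
  congr 2
  ext h
  rw [mem_centralizer_singleton_iff, mem_subgroupOf, ← mul_assoc, ← zH_comm, mul_assoc, mul_assoc,
    mul_left_cancel_iff]
  refine ⟨fun e => S.cent_U (y0_U S) (y0_ne S) h.2 (congrArg Subtype.val e), fun e => Subtype.ext ?_⟩
  obtain ⟨z', hz', a, ha, e⟩ := S.mem_ZU.1 e
  have h1 : a * y0 S = y0 S * a :=
    congrArg Subtype.val (IsMulCommutative.is_comm.comm (⟨a, ha⟩ : S.U) ⟨_, y0_U S⟩)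
  simp only [Subgroup.coe_mul, e]
  rw [mul_assoc, h1, ← mul_assoc, S.Z_comm hz' (y0 S).2, mul_assoc]

theorem Gam_U (ζ : S.Z → ℂ) (z : S.Z) : Gam S ζ (zH S z * y0 S) = - ζ z := by
  classical
  have := Fintype.ofFinite S.Z
  have := Fintype.ofFinite S.U
  have hq := q_ne S; have := d_ne S
  rw [Gam_def, ind_eq_sum, card_cent_y0, card_ZF, Nat.cast_mul, mul_comm (S.q : ℂ), div_self (by simp [*]), one_mul,
    Finset.sum_filter, Fintype.sum_prod_type, Finset.sum_eq_single_of_mem z (Finset.mem_univ _)]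
  · have h1 := sum_psi S
    rw [← Finset.add_sum_erase _ _ (Finset.mem_univ 1)] at h1 ⊢
    rw [Finset.sum_congr rfl (g := fun a => ζ z * (psi S).ch a) fun a ha =>
      if_pos (conj_ι S z (Finset.ne_of_mem_erase ha)), ← Finset.mul_sum, eq_neg_of_add_eq_zero_right h1, if_neg]
    · simp
    · intro h
      obtain ⟨c, hc⟩ := isConj_iff.1 h
      exact S.fus_UT z.2 (y0_U S) (y0_ne S) c.2 (by
        have := congrArg Subtype.val hc
        rw [ι_one] at this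
        rw [show (c : G) * (z * y0 S) * (c : G)⁻¹ = z from this]
        exact S.Z_le_T z.2)
  · intro z' _ hne
    refine Finset.sum_eq_zero fun a _ => if_neg fun h => hne ?_
    obtain ⟨c, hc⟩ := isConj_iff.1 h
    exact Subtype.ext (S.fus_U z.2 (y0_U S) (y0_ne S) z'.2 a.2 c.2 (congrArg Subtype.val hc)).1.symm

theorem hext {f g : S.H → ℂ} (hf : IsCF f) (hg : IsCF g) (h1 : ∀ z, f (zH S z) = g (zH S z))
    (h2 : ∀ z, f (zH S z * y0 S) = g (zH S z * y0 S))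
    (h3 : ∀ x : S.T, (x : G) ∉ S.Z → f (inclusion S.T_le_H x) = g (inclusion S.T_le_H x))
    (h4 : ∀ x : S.W, (x : G) ∉ S.Z → f (inclusion S.W_le_H x) = g (inclusion S.W_le_H x)) : f = g := by
  ext h
  obtain ⟨k, hk, e⟩ := S.classes h.2
  rw [← hf h ⟨k, hk⟩, ← hg h ⟨k, hk⟩]
  by_cases hz : k * h * k⁻¹ ∈ S.Z
  · exact h1 ⟨_, hz⟩
  rcases e with e | e | ⟨z, hz, y, hy, hy1, e⟩
  · exact h3 ⟨_, e⟩ hz
  · exact h4 ⟨_, e⟩ hz
  · have c := conj_y0 S ⟨z, hz⟩ (y := ⟨y, S.U_le_H hy⟩) hy hy1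
    have : (⟨k, hk⟩ * h * ⟨k, hk⟩⁻¹ : S.H) = zH S ⟨z, hz⟩ * ⟨y, S.U_le_H hy⟩ := Subtype.ext e
    rw [this, ← hf.of_isConj c, ← hg.of_isConj c, h2]

/-- a maximal torus of `H` -/
structure Tor where
  A : Subgroup G
  M : Subgroup G
  n : ℕ
  m : ℕ
  v : G
  hZ : S.Z ≤ A
  hH : A ≤ S.H
  comm : IsMulCommutative A
  card : Nat.card A = n * S.d
  sq : ((S.q : ℂ) - n) ^ 2 = 1
  nm : (n : ℂ) + m = 2 * S.q
  vH : v ∈ S.H
  vv : v * v = 1
  vA : ∀ x ∈ A, v * x * v⁻¹ ∈ A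
  v_not : v ∉ A
  cent : ∀ {x h : G}, x ∈ A → x ∉ S.Z → h ∈ S.H → h * x = x * h → h ∈ A
  fus : ∀ {x h : G}, x ∈ A → x ∉ S.Z → h ∈ S.H → h * x * h⁻¹ ∈ A → h ∈ A ∨ v * h ∈ A
  fusU : ∀ {z y h : G}, z ∈ S.Z → y ∈ S.U → y ≠ 1 → h ∈ S.H → h * (z * y) * h⁻¹ ∉ A
  memZ : ∀ {x : G}, x ∈ S.Z ↔ x ∈ A ∧ v * x * v⁻¹ = x
  memM : ∀ {x : G}, x ∈ M ↔ x ∈ A ∧ v * x * v⁻¹ = x⁻¹
  cardM : Nat.card M = n
  h90 : ∀ {x : G}, x ∈ M → ∃ y ∈ A, x = v * y * v⁻¹ * y⁻¹
  ext : ∀ l : Du A, (∀ x : A, (x : G) ∈ M → l.ch x = 1) → ∃ β : Du S.H, Du.comp (inclusion hH) β = l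

theorem cTm : (Nat.card S.Tm : ℂ) = S.q - S.e := by exact_mod_cast S.card_Tm
theorem cWm : (Nat.card S.Wm : ℂ) = S.q + S.e := by exact_mod_cast S.card_Wm

/-- the torus containing the four-group -/
@[reducible] noncomputable def torT : Tor S where
  A := S.T
  M := S.Tm
  n := Nat.card S.Tm
  m := Nat.card S.Wm
  v := S.w
  hZ := S.Z_le_T
  hH := S.T_le_H
  comm := S.commT
  card := by have := S.card_T; rw [← S.card_Tm] at this; exact_mod_cast this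
  sq := by rw [cTm]; linear_combination e_sq S
  nm := by rw [cTm, cWm]; ring
  vH := S.w_H
  vv := S.ww'
  vA := fun _ => S.w_T
  v_not := S.w_not_T
  cent := S.cent_T
  fus := S.fus_T
  fusU := S.fus_UT
  memZ := S.mem_Z_T
  memM := S.mem_Tm
  cardM := rfl
  h90 := S.Tm_h90
  ext := S.ext_T S.T_le_H

/-- the cyclic torus -/
@[reducible] noncomputable def torW : Tor S where
  A := S.W
  M := S.Wm
  n := Nat.card S.Wm
  m := Nat.card S.Tm
  v := S.u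
  hZ := S.Z_le_W
  hH := S.W_le_H
  comm := S.instCommW
  card := by have := S.card_W; rw [← S.card_Wm] at this; exact_mod_cast this
  sq := by rw [cWm]; linear_combination e_sq S
  nm := by rw [cTm, cWm]; ring
  vH := S.T_le_H S.u_T
  vv := S.uu
  vA := fun _ => S.u_W
  v_not := S.u_not_W
  cent := S.cent_W
  fus := S.fus_W
  fusU := S.fus_UW
  memZ := S.mem_Z_W
  memM := S.mem_Wm
  cardM := rfl
  h90 := S.Wm_h90
  ext := S.ext_W

namespace Tor
variable {S} (P : Tor S)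

instance instCommA : IsMulCommutative P.A := P.comm

/-- `A → H` -/
noncomputable abbrev i : P.A →* S.H := inclusion P.hH
/-- `Z → A` -/
noncomputable abbrev z : S.Z →* P.A := inclusion P.hZ
/-- the Weyl element -/
noncomputable def σ : P.A →* P.A := Hyp.cjr P.A P.v P.vA
@[simp] theorem σ_coe (x : P.A) : (P.σ x : G) = P.v * x * P.v⁻¹ := rfl
theorem σσ (x : P.A) : P.σ (P.σ x) = x := Subtype.ext (by
  have : P.v⁻¹ = P.v := inv_eq_of_mul_eq_one_right P.vv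
  simp only [σ_coe, this]
  calc P.v * (P.v * x * P.v) * P.v = (P.v * P.v) * x * (P.v * P.v) := by group
    _ = x := by rw [P.vv]; group)
theorem σ_z (z : S.Z) : P.σ (P.z z) = P.z z := Subtype.ext (P.memZ.1 z.2).2
theorem cf_σ {f : S.H → ℂ} (hf : IsCF f) (x : P.A) : f (P.i (P.σ x)) = f (P.i x) := hf (P.i x) ⟨P.v, P.vH⟩
theorem comm' {x y : G} (hx : x ∈ P.A) (hy : y ∈ P.A) : x * y = y * x :=
  congrArg Subtype.val (IsMulCommutative.is_comm.comm (⟨x, hx⟩ : P.A) ⟨y, hy⟩)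
theorem card_cast : (Nat.card P.A : ℂ) = P.n * S.d := by rw [P.card]; simp
theorem n_ne : (P.n : ℂ) ≠ 0 := fun h => by
  have : (Nat.card P.A : ℂ) ≠ 0 := by exact_mod_cast Nat.card_pos.ne'
  rw [card_cast, h, zero_mul] at this; exact this rfl
theorem n_mul : (P.n : ℂ) * P.m = S.q ^ 2 - 1 := by
  linear_combination P.n * P.nm - P.sq

/-- the Deligne-Lusztig functions -/
noncomputable def D : (P.A → ℂ) →ₗ[ℂ] (S.H → ℂ) := ind P.i - Gam S ∘ₗ LinearMap.funLeft ℂ ℂ P.z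
theorem D_def (a : P.A → ℂ) : P.D a = ind P.i a - Gam S (a ∘ P.z) := rfl
theorem isCF_D (a : P.A → ℂ) : IsCF (P.D a) := (isCF_ind _ _).sub (isCF_Gam S _)
theorem isVC_D {a : P.A → ℂ} (h : IsVC a) : IsVC (P.D a) := (h.induce _).sub (isVC_Gam S (h.comp _))

theorem D_Z (a : P.A → ℂ) (z : S.Z) : P.D a (zH S z) = P.m * (S.q - P.n) * a (P.z z) := by
  rw [D_def, Pi.sub_apply, Gam_Z, show zH S z = P.i (P.z z) from rfl,
    ind_central P.i a (P.z z) (zH_comm S z), card_H_cast, card_cast, ← P.n_mul]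
  have := d_ne S; have := P.n_ne
  simp only [Function.comp_apply]
  field_simp

theorem D_U (a : P.A → ℂ) (z : S.Z) : P.D a (zH S z * y0 S) = a (P.z z) := by
  rw [D_def, Pi.sub_apply, Gam_U, ind_eq_zero P.i fun x y e =>
    absurd (by rw [← show (x : G) = y * (z * y0 S) * (y : G)⁻¹ from congrArg Subtype.val e]; exact x.2)
      (P.fusU z.2 (y0_U S) (y0_ne S) y.2)]
  simp

theorem Gam_A (ζ : S.Z → ℂ) {x : P.A} (hx : (x : G) ∉ S.Z) : Gam S ζ (P.i x) = 0 := by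
  refine ind_eq_zero _ fun p y e => False.elim ?_
  have e' : (p.1 : G) * p.2 = y * x * (y : G)⁻¹ := congrArg Subtype.val e
  by_cases h : (p.2 : G) = 1
  · exact hx (mem_Z_of_conj S y.2 (by rw [← e', h]; simp))
  · exact P.fusU p.1.2 p.2.2 h (S.H.inv_mem y.2) (by rw [e']; simp [mul_assoc])

theorem card_cent {x : P.A} (hx : (x : G) ∉ S.Z) : Nat.card 𝐂[P.i x] = Nat.card P.A := by
  rw [← Nat.card_congr (subgroupOfEquivOfLe P.hH).toEquiv]
  congr 2
  ext h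
  rw [mem_centralizer_singleton_iff, mem_subgroupOf]
  exact ⟨fun e => P.cent x.2 hx h.2 (congrArg Subtype.val e), fun e => Subtype.ext (P.comm' e x.2)⟩

theorem D_A (a : P.A → ℂ) {x : P.A} (hx : (x : G) ∉ S.Z) : P.D a (P.i x) = a x + a (P.σ x) := by
  rw [D_def, Pi.sub_apply, P.Gam_A _ hx, sub_zero]
  refine ind_two _ _ (fun e => hx (P.memZ.2 ⟨x.2, (congrArg Subtype.val e).symm⟩)) (P.card_cent hx)
    fun c => ⟨fun h => ?_, ?_⟩
  · obtain ⟨k, hk⟩ := isConj_iff.1 h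
    have e : (k : G) * x * (k : G)⁻¹ = c := congrArg Subtype.val hk
    refine (P.fus x.2 hx k.2 (e ▸ c.2)).imp (fun h => Subtype.ext ?_) fun h => Subtype.ext ?_
    · rw [← e, P.comm' h x.2, mul_inv_cancel_right]
    · have : (k : G) = P.v * (P.v * k) := by rw [← mul_assoc, P.vv, one_mul]
      rw [← e, σ_coe, this, mul_assoc P.v, P.comm' h x.2]; group
  · rintro (rfl | rfl)
    exacts [IsConj.refl _, isConj_iff.2 ⟨⟨P.v, P.vH⟩, rfl⟩]

/-- two non-conjugate tori -/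
def Dis (Q : Tor S) : Prop :=
  P.m = Q.n ∧ ∀ {x h : G}, x ∈ Q.A → x ∉ S.Z → h ∈ S.H → h * x * h⁻¹ ∉ P.A

theorem D_B {Q : Tor S} (h : P.Dis Q) (a : P.A → ℂ) {x : Q.A} (hx : (x : G) ∉ S.Z) : P.D a (Q.i x) = 0 := by
  rw [D_def, Pi.sub_apply, Q.Gam_A _ hx, sub_zero]
  exact ind_eq_zero _ fun c y e => absurd
    (by rw [← show (c : G) = y * x * (y : G)⁻¹ from congrArg Subtype.val e]; exact c.2) (h.2 x.2 hx y.2)

open Classical in
/-- the adjoint of `D` -/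
noncomputable def eta (f : S.H → ℂ) : P.A → ℂ := fun x =>
  f (P.i x) - if h : (x : G) ∈ S.Z then P.n * j S f ⟨x, h⟩ else 0

theorem eta_Z (f : S.H → ℂ) (z : S.Z) : P.eta f (P.z z) = f (zH S z) - P.n * j S f z := by
  rw [eta, dif_pos (show ((P.z z : P.A) : G) ∈ S.Z from z.2)]; rfl
theorem eta_A (f : S.H → ℂ) {x : P.A} (hx : (x : G) ∉ S.Z) : P.eta f x = f (P.i x) := by
  rw [eta, dif_neg hx, sub_zero]

theorem fext {a b : P.A → ℂ} (h1 : ∀ z, a (P.z z) = b (P.z z)) (h2 : ∀ x : P.A, (x : G) ∉ S.Z → a x = b x) :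
    a = b := by
  ext x
  by_cases h : (x : G) ∈ S.Z
  exacts [h1 ⟨x, h⟩, h2 x h]

theorem ip_D (a : P.A → ℂ) {f : S.H → ℂ} (hf : IsCF f) : ⟪P.D a, f⟫ = ⟪a, P.eta f⟫ := by
  have e : P.eta f = f ∘ P.i - ind P.z (j S f) := P.fext
    (fun z => by
      rw [eta_Z, Pi.sub_apply, ind_central _ _ _ fun g => IsMulCommutative.is_comm.comm _ _, card_cast,
        show (Nat.card S.Z : ℂ) = S.d from rfl, mul_div_cancel_right₀ _ (d_ne S)]; rfl)
    fun x hx => by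
      rw [P.eta_A _ hx, Pi.sub_apply, ind_eq_zero _ fun c y e => absurd (by
        have : y * x * y⁻¹ = x := by rw [IsMulCommutative.is_comm.comm y x, mul_inv_cancel_right]
        rw [this] at e; exact e ▸ c.2) hx]
      simp
  rw [D_def, ip_sub_left, ip_ind_left _ _ hf, ip_Gam S _ hf, e, ip_sub_right,
    ip_ind_right _ _ (isCF_of_comm a)]

theorem eta_σ {f : S.H → ℂ} (hf : IsCF f) (x : P.A) : P.eta f (P.σ x) = P.eta f x := by
  by_cases h : (x : G) ∈ S.Z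
  · rw [show x = P.z ⟨x, h⟩ from rfl, σ_z]
  · rw [P.eta_A _ h, P.eta_A _ fun h' => h (mem_Z_of_conj S P.vH h'), P.cf_σ hf]

theorem eta_D (a : P.A → ℂ) : P.eta (P.D a) = a + a ∘ P.σ := P.fext
  (fun z => by
    have := q_ne S
    rw [eta_Z, j, D_Z, D_U, Pi.add_apply, Function.comp_apply, σ_z, show (P.m : ℂ) = 2 * S.q - P.n by
      linear_combination P.nm]
    field_simp
    linear_combination (a (P.z z) * (2 * S.q - P.n)) * P.sq)
  fun x hx => by rw [P.eta_A _ hx, P.D_A _ hx]; rfl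

theorem eta_D' {Q : Tor S} (h : P.Dis Q) (a : P.A → ℂ) : Q.eta (P.D a) = 0 := Q.fext
  (fun z => by
    have := q_ne S
    rw [eta_Z, j, D_Z, D_U, ← h.1, show (P.m : ℂ) = 2 * S.q - P.n by linear_combination P.nm, Pi.zero_apply]
    field_simp
    linear_combination (a (P.z z) * (P.n - 2 * S.q)) * P.sq)
  fun x hx => by rw [Q.eta_A _ hx, P.D_B h _ hx]; rfl

theorem ip_DD (a b : P.A → ℂ) : ⟪P.D a, P.D b⟫ = ⟪a, b⟫ + ⟪a, b ∘ P.σ⟫ := by
  rw [P.ip_D _ (P.isCF_D b), eta_D, ip_add_right]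

theorem ip_DD' {Q : Tor S} (h : Q.Dis P) (a : P.A → ℂ) (b : Q.A → ℂ) : ⟪P.D a, Q.D b⟫ = 0 := by
  rw [P.ip_D _ (Q.isCF_D b), Q.eta_D' h, ip_zero_right]

theorem eta_of {f : S.H → ℂ} (h : ∀ z, f (zH S z * y0 S) = f (zH S z)) : P.eta f = f ∘ P.i := P.fext
  (fun z => by rw [eta_Z, j, h]; simp; rfl) fun x hx => P.eta_A _ hx

end Tor

theorem disWT : (torW S).Dis (torT S) := ⟨rfl, S.fus_TW⟩
theorem disTW : (torT S).Dis (torW S) := ⟨rfl, fun hx hz hh e =>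
  S.fus_TW e (fun h => hz (mem_Z_of_conj S hh h)) (S.H.inv_mem hh)
    (by simp only [mul_assoc, inv_inv, inv_mul_cancel, mul_one, inv_mul_cancel_left]; exact hx)⟩

theorem decomp {f : S.H → ℂ} (hf : IsCF f) :
    f = (2 : ℂ)⁻¹ • ((torT S).D ((torT S).eta f) + (torW S).D ((torW S).eta f)) := by
  have hq := q_ne S
  have c1 : ((torT S).n : ℂ) = S.q - S.e := cTm S
  have c2 : ((torT S).m : ℂ) = S.q + S.e := cWm S
  refine hext S hf ((((torT S).isCF_D _).add ((torW S).isCF_D _)).smul _) (fun z => ?_) (fun z => ?_)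
    (fun x hx => ?_) fun x hx => ?_
  · rw [Pi.smul_apply, Pi.add_apply, Tor.D_Z, Tor.D_Z, Tor.eta_Z, Tor.eta_Z, c1, c2, smul_eq_mul]
    linear_combination (-f (zH S z)) * e_sq S
  · rw [Pi.smul_apply, Pi.add_apply, Tor.D_U, Tor.D_U, Tor.eta_Z, Tor.eta_Z, c1, c2, smul_eq_mul, j]
    field_simp; ring
  · have h1 := (torT S).D_A ((torT S).eta f) (x := x) hx
    have h2 := (torW S).D_B (disWT S) ((torW S).eta f) (x := x) hx
    rw [(torT S).eta_σ hf, (torT S).eta_A _ hx] at h1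
    simp only [Pi.smul_apply, Pi.add_apply, smul_eq_mul]
    linear_combination (-2⁻¹ : ℂ) * h1 - 2⁻¹ * h2
  · have h1 := (torW S).D_A ((torW S).eta f) (x := x) hx
    have h2 := (torT S).D_B (disTW S) ((torT S).eta f) (x := x) hx
    rw [(torW S).eta_σ hf, (torW S).eta_A _ hx] at h1
    simp only [Pi.smul_apply, Pi.add_apply, smul_eq_mul]
    linear_combination (-2⁻¹ : ℂ) * h1 - 2⁻¹ * h2

variable {S}

theorem odd_U {y : G} (hy : y ∈ S.U) : Odd (orderOf y) :=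
  S.odd.of_dvd_nat (S.card_U ▸ S.U.orderOf_dvd_natCard hy)

/-- the two tori -/
structure Pair (P Q : Tor S) : Prop where
  d1 : P.Dis Q
  d2 : Q.Dis P
  dec : ∀ {f : S.H → ℂ}, IsCF f → f = (2 : ℂ)⁻¹ • (P.D (P.eta f) + Q.D (Q.eta f))

variable (S) in
theorem pairTW : Pair (torT S) (torW S) := ⟨disTW S, disWT S, decomp S⟩
theorem Pair.symm {P Q : Tor S} (h : Pair P Q) : Pair Q P := ⟨h.d2, h.d1, fun hf => by rw [add_comm]; exact h.dec hf⟩

namespace Tor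
variable (P : Tor S)

theorem eta_regI : P.eta (Blk.regI S.H 2) = Blk.regI P.A 2 := by
  rw [P.eta_of, Blk.regI_comp]
  intro z
  refine Blk.regI_sec _ _ ?_
  rw [constt_mul _ (zH_comm S z _), constt_eq_one (x := y0 S) (piElt_two_iff.2 (by
    rw [← Subgroup.orderOf_coe]; exact odd_U (y0_U S))), mul_one]

theorem eta_lin (β : Du S.H) : P.eta β.ch = (Du.comp P.i β).ch :=
  P.eta_of fun z => by rw [Du.ch_apply_mul, S.lin_U β _ (y0_U S), mul_one]

theorem ip_D_reg (a : P.A → ℂ) : ⟪P.D a, Blk.regI S.H 2⟫ = ⟪a, Blk.regI P.A 2⟫ := by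
  rw [P.ip_D _ Blk.isCF_regI, eta_regI]

/-- the proportion of elements of odd order -/
noncomputable def δ : ℂ := (Nat.card (oddK P.A) : ℂ) / Nat.card P.A
theorem δ_ne : P.δ ≠ 0 := div_ne_zero (by exact_mod_cast Nat.card_pos.ne') (by exact_mod_cast Nat.card_pos.ne')

theorem δ_ne' {Q : Tor S} (h : P.Dis Q) : P.δ ≠ Q.δ := fun e => by
  have hd := d_ne S
  rw [δ, δ, card_cast, card_cast, div_eq_div_iff (mul_ne_zero P.n_ne hd) (mul_ne_zero Q.n_ne hd), ← mul_assoc,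
    ← mul_assoc, mul_left_inj' hd, ← h.1] at e
  obtain ⟨a, ha⟩ := odd_card_oddK (W := P.A)
  obtain ⟨b, hb⟩ := odd_card_oddK (W := Q.A)
  obtain ⟨k, hk⟩ := S.odd
  have e1 : ((2 * a + 1 : ℕ) : ℤ) * P.m = (2 * b + 1 : ℕ) * P.n := by rw [← ha, ← hb]; exact_mod_cast e
  have e2 : (P.n : ℤ) + P.m = 2 * S.q := by exact_mod_cast P.nm
  have e3 : ((S.q : ℤ) - P.n) ^ 2 = 1 := by exact_mod_cast P.sq
  rw [hk] at e2 e3
  push_cast at e1 e2 e3
  rcases sq_eq_one_iff.1 e3 with h | h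
  · have h1 : (P.n : ℤ) = 2 * k := by linarith
    have h2 : (P.m : ℤ) = 2 * k + 2 := by linarith
    rw [h1, h2] at e1
    have : 2 * (b * k - a * k - a : ℤ) = 1 := by linarith
    omega
  · have h1 : (P.n : ℤ) = 2 * k + 2 := by linarith
    have h2 : (P.m : ℤ) = 2 * k := by linarith
    rw [h1, h2] at e1
    have : 2 * (a * k - b * k - b : ℤ) = 1 := by linarith
    omega

theorem not_two {Q : Tor S} (β : Du S.H) (h : ¬ Two (Du.comp P.i β).ch) : ¬ Two (Du.comp Q.i β).ch := fun h' => by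
  refine h (two_iff.2 (mem_ann.2 fun x hx => ?_))
  have hz : ((x * P.σ x : P.A) : G) ∈ S.Z := P.memZ.2 ⟨(x * P.σ x).2, by
    have := congrArg Subtype.val (show P.σ (x * P.σ x) = x * P.σ x by
      rw [map_mul, σσ]; exact IsMulCommutative.is_comm.comm _ _)
    exact this⟩
  have ho : Odd (orderOf (x * P.σ x)) := (oddK P.A).mul_mem hx
    (Odd.of_dvd_nat hx (orderOf_map_dvd P.σ x))
  have h1 := mem_ann.1 (two_iff.1 h') (Q.z ⟨_, hz⟩) (by
    rw [mem_oddK, ← Subgroup.orderOf_coe]; rwa [← Subgroup.orderOf_coe] at ho)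
  have h2 : β.ch (P.i x) * β.ch (P.i x) = 1 := by
    rw [← h1]
    conv_lhs => rhs; rw [← P.cf_σ β.isCF x]
    rw [← Du.ch_apply_mul]; rfl
  obtain ⟨k, hk⟩ := mem_oddK.1 hx
  have h3 : β.ch (P.i x) ^ orderOf x = 1 := by
    rw [← Du.ch_apply_pow, ← map_pow, pow_orderOf_eq_one, map_one, Du.ch_apply_one]
  rwa [hk, pow_succ, pow_mul, pow_two, h2, one_pow, one_mul] at h3

variable {P} {Q : Tor S}

theorem ip_lin_reg (h : Pair P Q) (β : Du S.H) : ⟪β.ch, Blk.regI S.H 2⟫ =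
    2⁻¹ * (⟪(Du.comp P.i β).ch, Blk.regI P.A 2⟫ + ⟪(Du.comp Q.i β).ch, Blk.regI Q.A 2⟫) := by
  conv_lhs => rw [h.dec β.isCF]
  rw [ip_smul_left, ip_add_left, ip_D_reg, ip_D_reg, eta_lin, eta_lin]

theorem D_cases (l : Du P.A) : IsSIrr (P.D l.ch) ∨
    ∃ β : Du S.H, Du.comp P.i β = l ∧ IsSIrr (P.D l.ch - β.ch) := by
  have hv := P.isVC_D l.isVC
  have hn := P.ip_DD l.ch l.ch
  rw [← Du.ch_comp, Du.ip_ch, Du.ip_ch, if_pos rfl] at hn
  split_ifs at hn with h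
  · obtain ⟨β, hβ⟩ := P.ext l fun x hx => by
      obtain ⟨y, hy, e⟩ := P.h90 hx
      rw [show x = P.σ ⟨y, hy⟩ * (⟨y, hy⟩ : P.A)⁻¹ from Subtype.ext e, Du.ch_apply_mul,
        show l.ch (P.σ ⟨y, hy⟩) = l.ch ⟨y, hy⟩ from congrFun (congrArg Du.ch h.symm) _, ← Du.ch_apply_mul,
        mul_inv_cancel, Du.ch_apply_one]
    have h1 : ⟪P.D l.ch, β.ch⟫ = 1 := by rw [P.ip_D _ β.isCF, eta_lin, hβ, Du.ip_ch, if_pos rfl]
    obtain ⟨y, hy, -, e⟩ := hv.norm_two_of (by rw [hn]; norm_num) β.isIrr.isSIrr h1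
    exact Or.inr ⟨β, hβ, by rwa [e, add_sub_cancel_left]⟩
  · exact Or.inl (hv.isSIrr (by rw [hn, add_zero]))

theorem pi0_D_two (h : Pair P Q) {l : Du P.A} (hl : Two l.ch) : Blk.pi0 2 (P.D l.ch) = P.D l.ch := by
  have h1 : ⟪P.D l.ch, Blk.regI S.H 2⟫ = P.δ := by rw [ip_D_reg, two_regI_mul l hl, δ]
  rcases D_cases l with hs | ⟨β, rfl, hs⟩
  · exact sirr_pi0 hs (h1 ▸ P.δ_ne)
  have h2 := ip_lin_reg h β
  by_cases hq : Two (Du.comp Q.i β).ch
  · rw [two_regI_mul _ hl, two_regI_mul _ hq] at h2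
    change _ = 2⁻¹ * (P.δ + Q.δ) at h2
    have := sirr_pi0 hs (by
      rw [ip_sub_left, h1, h2]; exact fun e => P.δ_ne' h.d1 (by linear_combination 2 * e))
    rwa [Blk.pi0_sub, sirr_pi0 β.isIrr.isSIrr (by
      rw [h2, δ, δ]
      have h3 : (0 : ℝ) < 2⁻¹ * ((Nat.card (oddK P.A) : ℝ) / Nat.card P.A + (Nat.card (oddK Q.A) : ℝ) / Nat.card Q.A) := by
        have := Nat.card_pos (α := oddK P.A); have := Nat.card_pos (α := P.A); positivity
      intro e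
      apply h3.ne'
      apply Complex.ofReal_injective
      push_cast
      exact e), sub_left_inj] at this
  · exact absurd hl (Q.not_two β hq)

theorem pi0_D_not (h : Pair P Q) {l : Du P.A} (hl : ¬ Two l.ch) : Blk.pi0 2 (P.D l.ch) = 0 := by
  have h1 : ⟪P.D l.ch, Blk.regI S.H 2⟫ = 0 := by rw [ip_D_reg, not_two_regI hl]
  rcases D_cases l with hs | ⟨β, rfl, hs⟩
  · exact sirr_pi0' hs h1
  have h2 := ip_lin_reg h β
  rw [not_two_regI hl, not_two_regI (P.not_two β hl), add_zero, mul_zero] at h2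
  have := sirr_pi0' hs (by rw [ip_sub_left, h1, h2, sub_zero])
  rwa [Blk.pi0_sub, sirr_pi0' β.isIrr.isSIrr h2, sub_zero] at this

theorem pi0_D (h : Pair P Q) (a : P.A → ℂ) :
    Blk.pi0 2 (P.D a) = P.D (∑ l ∈ annF (oddK P.A), ⟪a, l.ch⟫ • l.ch) := by
  conv_lhs => rw [Du.expand a]
  rw [map_sum, map_sum, Blk.pi0_sum, ← Finset.sum_subset (Finset.subset_univ (annF (oddK P.A))) fun l _ hl => by
    rw [map_smul, Blk.pi0_smul, pi0_D_not h fun h' => hl (mem_annF.2 (two_iff.1 h')), smul_zero]]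
  exact Finset.sum_congr rfl fun l hl => by
    rw [map_smul, Blk.pi0_smul, pi0_D_two h (two_iff.2 (mem_annF.1 hl))]

theorem pi0_D_of (h : Pair P Q) {a : P.A → ℂ} (ha : Two a) : Blk.pi0 2 (P.D a) = P.D a := by
  rw [pi0_D h, ← expand_two ha]

end Tor

variable (S) in
/-- the elements with `t` as a power -/
def R : Set S.H := {h | S.t ∈ zpowers (h : G)}

theorem conj_t {h : G} (hh : h ∈ S.H) : h * S.t * h⁻¹ = S.t := by rw [S.mem_H.1 hh, mul_inv_cancel_right]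
theorem rt_conj {h x : G} (hh : h ∈ S.H) : S.t ∈ zpowers (h * x * h⁻¹) ↔ S.t ∈ zpowers x := by
  conv_lhs => rw [← conj_t hh]
  exact zp_conj_iff

theorem one_not_R : (1 : S.H) ∉ R S := fun h => S.t_ne (by simpa [R] using h)

/-- functions supported on `R` -/
def Sup (f : S.H → ℂ) : Prop := ∀ x, x ∉ R S → f x = 0
/-- functions on a torus supported on `R` -/
def Tor.SupA (P : Tor S) (a : P.A → ℂ) : Prop := ∀ x : P.A, S.t ∉ zpowers (x : G) → a x = 0

theorem Tor.sup_D {P : Tor S} {a : P.A → ℂ} (ha : P.SupA a) : Sup (P.D a) := fun x hx => by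
  rw [P.D_def, Pi.sub_apply, ind_eq_zero _ fun c y e => ha c fun h => hx ((rt_conj y.2).1
    ((show (c : G) = y * x * (y : G)⁻¹ from congrArg Subtype.val e) ▸ h)), Gam_def, ind_eq_zero, sub_zero]
  intro p y e
  rw [Function.comp_apply, ha _ fun h => hx ((rt_conj y.2).1 ?_), zero_mul]
  rw [← show (p.1 : G) * p.2 = y * x * (y : G)⁻¹ from congrArg Subtype.val e]
  exact zp_mul_odd h S.tt (S.Z_comm p.1.2 (S.U_le_H p.2.2)) (odd_U p.2.2)


variable (S) in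
open Classical in
/-- the number of factorizations into two involutions -/
noncomputable def cn (g : G) : ℂ := Set.ncard {i | i ∈ S.H ∧ i * i = 1 ∧ i ≠ 1 ∧ i ≠ g ∧ i * g * i⁻¹ = g⁻¹}

theorem cnt_eq {g : G} (_ : S.t ∈ zpowers g) :
    cn S g = Set.ncard {i | i ∈ S.H ∧ i * i = 1 ∧ i ≠ 1 ∧ i ≠ g ∧ i * g * i⁻¹ = g⁻¹} := rfl

theorem isCF_cn : IsCF (cn S ∘ S.H.subtype) := fun a b => by
  have k : ∀ (b : G) (_ : b ∈ S.H) (g i : G), i ∈ S.H ∧ i * i = 1 ∧ i ≠ 1 ∧ i ≠ g ∧ i * g * i⁻¹ = g⁻¹ →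
      b * i * b⁻¹ ∈ S.H ∧ b * i * b⁻¹ * (b * i * b⁻¹) = 1 ∧ b * i * b⁻¹ ≠ 1 ∧ b * i * b⁻¹ ≠ b * g * b⁻¹ ∧
      b * i * b⁻¹ * (b * g * b⁻¹) * (b * i * b⁻¹)⁻¹ = (b * g * b⁻¹)⁻¹ := fun b hb g i ⟨h0, h1, h2, h3, h4⟩ =>
    ⟨mul_mem (mul_mem hb h0) (inv_mem hb), conj_sq h1 b, fun e => h2 (by simpa using e), fun e => h3 (by simpa using e), by
      rw [show b * i * b⁻¹ * (b * g * b⁻¹) * (b * i * b⁻¹)⁻¹ = b * (i * g * i⁻¹) * b⁻¹ by group, h4]; group⟩
  simp only [Function.comp_apply, cn, Subgroup.coe_subtype, Subgroup.coe_mul, Subgroup.coe_inv]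
  congr 1
  symm
  refine Set.ncard_congr (fun x _ => (b : G) * x * (b : G)⁻¹) (fun x hx => k _ b.2 _ _ hx)
    (fun x y _ _ h => by simpa using h) fun y hy => ⟨(b : G)⁻¹ * y * (b : G)⁻¹⁻¹, ?_, by group⟩
  have := k _ (inv_mem b.2) _ _ hy
  rwa [show (b : G)⁻¹ * (b * a * (b : G)⁻¹) * (b : G)⁻¹⁻¹ = a by group] at this

theorem cnt_t : cn S S.t = S.q * (S.q + S.e) := by
  classical
  have := Fintype.ofFinite S.H
  have h1 := sum_conj ((torT S).i S.uT) fun _ => (1 : ℂ)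
  rw [(torT S).card_cent (x := S.uT) S.u_not_Z, (torT S).card_cast, Finset.sum_const, Finset.sum_const,
    Finset.card_univ, ← Nat.card_eq_fintype_card, nsmul_eq_mul, nsmul_eq_mul, card_H_cast, ← (torT S).n_mul] at h1
  have h2 : {i | i ∈ S.H ∧ i * i = 1 ∧ i ≠ 1 ∧ i ≠ S.t ∧ i * S.t * i⁻¹ = S.t⁻¹} =
      Subtype.val '' ((univ.filter (IsConj ((torT S).i S.uT)) : Finset S.H) : Set S.H) := by
    ext i
    simp only [Set.mem_setOf_eq, Set.mem_image, Finset.coe_filter, Finset.mem_univ, true_and]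
    refine ⟨fun ⟨a, b, c, d, _⟩ => ?_, ?_⟩
    · obtain ⟨k, hk, rfl⟩ := (S.inv_H a b c).resolve_left d
      exact ⟨⟨_, a⟩, isConj_iff.2 ⟨⟨k, hk⟩, rfl⟩, rfl⟩
    · rintro ⟨c, hc, rfl⟩
      obtain ⟨k, rfl⟩ := isConj_iff.1 hc
      refine ⟨Subtype.property _, conj_sq S.uu (k : G), fun h => S.u_ne (by
        simpa using (show (k : G) * S.u * (k : G)⁻¹ = 1 from h)), fun h => S.t_ne_u ?_,
        by rw [conj_t (Subtype.property _), S.t_inv]⟩
      have h3 : (k : G) * S.u * (k : G)⁻¹ = k * S.t * (k : G)⁻¹ := h.trans (conj_t k.2).symm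
      simpa using h3.symm
  rw [cnt_eq (mem_zpowers _), h2, Set.ncard_image_of_injective _ Subtype.val_injective, Set.ncard_coe_finset,
    ← cWm S]
  have := d_ne S; have := (torT S).n_ne
  apply mul_left_cancel₀ (mul_ne_zero (torT S).n_ne (d_ne S))
  rw [mul_one, mul_one] at h1
  convert h1.symm using 1
  · congr!
  · ring

theorem y0_sq : (y0 S : G) ≠ (y0 S : G)⁻¹ := fun h =>
  not_odd_of_inv (mem_zpowers _) (by nth_rw 2 [h]; rw [mul_inv_cancel]) (y0_ne S) (odd_U (y0_U S))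

theorem t_y0 : S.t * y0 S = y0 S * S.t := (S.mem_H.1 (y0 S).2).symm

theorem cnt_ty : cn S (S.t * y0 S) = S.q + S.e * S.q := by
  have h1 : ((Nat.card {i : G // i ∈ S.H ∧ i * i = 1 ∧ i ≠ 1 ∧ i ≠ S.t ∧ i * y0 S * i⁻¹ = (y0 S : G)⁻¹} : ℕ) : ℂ) =
      S.q + S.e * S.q := by exact_mod_cast S.refl_U (y0_U S) (y0_ne S)
  rw [cnt_eq (zp_mul_odd (mem_zpowers _) S.tt t_y0 (odd_U (y0_U S))), ← h1, ← Nat.card_coe_set_eq]
  congr 1
  refine Nat.card_congr (Equiv.subtypeEquivRight fun i => ?_)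
  simp only [Set.mem_setOf_eq]
  refine and_congr_right fun hi => and_congr_right fun h2 => and_congr_right fun h3 => ?_
  have e : i * (S.t * y0 S) * i⁻¹ = (S.t * y0 S)⁻¹ ↔ i * y0 S * i⁻¹ = (y0 S : G)⁻¹ := by
    rw [show i * (S.t * y0 S) * i⁻¹ = i * S.t * i⁻¹ * (i * y0 S * i⁻¹) by group, conj_t hi, t_y0, mul_inv_rev,
      S.t_inv, mul_left_cancel_iff]
  rw [e]
  refine and_congr_left fun h4 => iff_of_true (fun h => y0_sq (S := S) ?_) fun h => y0_sq (S := S) ?_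
  · rw [← h4, h, mul_assoc S.t, ← mul_assoc S.t, t_y0, mul_assoc (y0 S : G), t_y0]; group
  · rw [← h4, h, t_y0, mul_inv_cancel_right]

theorem eq_t {z : G} (hz : z ∈ S.Z) (ht : S.t ∈ zpowers z) (h : z = z⁻¹) : z = S.t :=
  (S.inv_W (S.Z_le_W hz) (by nth_rw 2 [h]; rw [mul_inv_cancel])).resolve_left fun e =>
    S.t_ne (by simpa [e] using ht)

theorem cnt_Z {z : G} (hz : z ∈ S.Z) (ht : S.t ∈ zpowers z) (h : z ≠ S.t) : cn S z = 0 := by
  rw [cnt_eq ht, Nat.cast_eq_zero, Set.ncard_eq_zero]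
  exact Set.eq_empty_of_forall_notMem fun i ⟨a, _, _, _, e⟩ => h (eq_t hz ht (by
    rw [← e, ← S.Z_comm hz a, mul_inv_cancel_right]))

theorem cnt_ZU {z : G} (hz : z ∈ S.Z) (ht : S.t ∈ zpowers z) (h : z ≠ S.t) : cn S (z * y0 S) = 0 := by
  rw [cnt_eq (zp_mul_odd ht S.tt (S.Z_comm hz (y0 S).2) (odd_U (y0_U S))), Nat.cast_eq_zero, Set.ncard_eq_zero]
  exact Set.eq_empty_of_forall_notMem fun i ⟨a, _, _, _, e⟩ => h (eq_t hz ht
      (S.fus_U hz (y0_U S) (y0_ne S) (inv_mem hz) (inv_mem (y0_U S)) a (by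
        rw [e, S.Z_comm hz (y0 S).2, mul_inv_rev])).1)

namespace Tor
variable (P : Tor S)

theorem M_le : P.M ≤ P.A := fun _ h => (P.memM.1 h).1

open Classical in
theorem cnt_A {x : G} (hx : x ∈ P.A) (hz : x ∉ S.Z) (ht : S.t ∈ zpowers x) :
    cn S x = if x ∈ P.M then (P.n : ℂ) else 0 := by
  have hv : P.v⁻¹ = P.v := inv_eq_of_mul_eq_one_right P.vv
  have key : ∀ i, i ∈ S.H → i * i = 1 → i * x * i⁻¹ = x⁻¹ → x ∈ P.M ∧ P.v * i ∈ P.M := fun i a b e => by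
    have hi : i⁻¹ = i := inv_eq_of_mul_eq_one_right b
    rcases P.fus hx hz a (e ▸ inv_mem hx) with h | h
    · rw [P.comm' h hx, mul_inv_cancel_right] at e
      exact absurd ((inv_unique (mem_zpowers x) ht (by nth_rw 2 [e]; rw [mul_inv_cancel]) S.tt
        (fun h => hz (h ▸ one_mem _)) S.t_ne) ▸ S.t_Z) hz
    · refine ⟨P.memM.2 ⟨hx, ?_⟩, P.memM.2 ⟨h, by rw [← mul_assoc, P.vv, one_mul, mul_inv_rev, hi]⟩⟩
      have : i = P.v * (P.v * i) := by rw [← mul_assoc, P.vv, one_mul]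
      rw [← e, this, mul_assoc P.v (P.v * i), P.comm' h hx]; group
  rw [cnt_eq ht]
  split_ifs with h
  · have : {i | i ∈ S.H ∧ i * i = 1 ∧ i ≠ 1 ∧ i ≠ x ∧ i * x * i⁻¹ = x⁻¹} = (P.v * ·) '' (P.M : Set G) := by
      ext i
      refine ⟨fun ⟨a, b, _, _, e⟩ => ⟨_, (key i a b e).2, by simp only [← mul_assoc, P.vv, one_mul]⟩, ?_⟩
      rintro ⟨y, hy, rfl⟩
      have hA := P.M_le hy
      have k : ∀ c ∈ P.A, P.v * y ≠ c := fun c hc e => P.v_not (by
        rw [eq_mul_inv_of_mul_eq e]; exact mul_mem hc (inv_mem hA))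
      refine ⟨mul_mem P.vH (P.hH hA), ?_, k _ (one_mem _), k _ hx, ?_⟩
      · have := (P.memM.1 hy).2
        rw [hv] at this
        simp only [← mul_assoc, this, inv_mul_cancel]
      · simp only
        rw [mul_assoc P.v y, P.comm' hA hx, ← (P.memM.1 h).2]; group
    rw [this, Set.ncard_image_of_injective _ (mul_right_injective _), ← P.cardM, ← Nat.card_coe_set_eq]; rfl
  · rw [Nat.cast_eq_zero, Set.ncard_eq_zero]
    exact Set.eq_empty_of_forall_notMem fun i ⟨a, b, _, _, e⟩ => h (key i a b e).1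

/-- `t` as an element of the torus -/
def tA : P.A := ⟨S.t, P.hZ S.t_Z⟩
theorem t_M : S.t ∈ P.M := P.memM.2 ⟨P.hZ S.t_Z, by rw [conj_t P.vH, S.t_inv]⟩

theorem inv_M {x : G} (hx : x ∈ P.M) (h : ¬ Odd (orderOf x)) : S.t ∈ zpowers x := by
  obtain ⟨i, hi, h2, h1⟩ := exists_inv h
  have hM := P.memM.1 (zpowers_le.2 hx hi)
  rw [inv_eq_of_mul_eq_one_right h2] at hM
  exact ((S.inv_W (S.Z_le_W (P.memZ.2 hM)) h2).resolve_left h1) ▸ hi

open Classical in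
theorem eta_cnt {x : P.A} (ht : S.t ∈ zpowers (x : G)) : P.eta (cn S ∘ S.H.subtype) x =
    P.n * ext0 (inclusion P.M_le) 1 x + if x = P.tA then S.q * (S.q + S.e - P.n : ℂ) else 0 := by
  have e0 : ext0 (inclusion P.M_le) 1 x = if (x : G) ∈ P.M then 1 else 0 := by
    split_ifs with h
    exacts [ext0_of_eq _ _ (h := ⟨x, h⟩) rfl, ext0_not_mem _ _ fun ⟨y, e⟩ => h (e ▸ y.2)]
  rw [e0]
  by_cases hz : (x : G) ∈ S.Z
  · rw [show x = P.z ⟨x, hz⟩ from rfl, eta_Z, j]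
    change cn S x - P.n * ((cn S x - cn S (x * y0 S)) / S.q) = P.n * (if (x : G) ∈ P.M then 1 else 0) +
      if x = P.tA then _ else 0
    by_cases h : (x : G) = S.t
    · rw [if_pos (show x = P.tA from Subtype.ext h), h, if_pos P.t_M, cnt_t, cnt_ty]
      have := q_ne S
      field_simp; ring
    · rw [cnt_Z hz ht h, cnt_ZU hz ht h, if_neg fun e => h (congrArg Subtype.val e), if_neg fun e =>
        h (eq_t hz ht ((P.memZ.1 hz).2.symm.trans (P.memM.1 e).2))]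
      simp
  · rw [P.eta_A _ hz, if_neg fun e : x = P.tA => hz (by rw [e]; exact S.t_Z), add_zero]
    change cn S x = _
    rw [P.cnt_A x.2 hz ht]; simp

theorem ip_cnt_D {a : P.A → ℂ} (ha : P.SupA a) :
    Nat.card S.H * ⟪P.D a, cn S ∘ S.H.subtype⟫ =
      S.q * P.m * (S.q * (S.q + S.e - P.n) * a P.tA + P.n ^ 2 * ⟪a ∘ inclusion P.M_le, 1⟫) := by
  classical
  have := Fintype.ofFinite P.A
  have := Fintype.ofFinite P.M
  rw [P.ip_D _ isCF_cn, ip_congr_support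
    (c := fun x => P.n * ext0 (inclusion P.M_le) 1 x + if x = P.tA then S.q * (S.q + S.e - P.n : ℂ) else 0)
    fun x hx => P.eta_cnt (by by_contra h; exact hx (ha x h)), ip_def, ip_one_right, card_H_cast, card_cast,
    P.cardM, ← P.n_mul]
  have h1 := sum_ext0 (inclusion P.M_le) 1 a
  have h2 : ∀ x, conj (ext0 (inclusion P.M_le) 1 x) = ext0 (inclusion P.M_le) 1 x := fun x => by
    rw [← ext0_star, star_one]
  simp only [map_add, map_mul, h2, map_natCast, mul_add, Finset.sum_add_distrib, apply_ite conj, map_zero, mul_ite,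
    mul_zero, Finset.sum_ite_eq', Finset.mem_univ, if_true, map_sub, map_intCast, Pi.one_apply, one_mul,
    Function.comp_apply] at h1 ⊢
  rw [← h1, Finset.sum_congr rfl (g := fun x => P.n * (ext0 (inclusion P.M_le) 1 x * a x)) fun x _ => by ring,
    ← Finset.mul_sum]
  have := d_ne S; have := P.n_ne
  field_simp
  ring

end Tor

end CA.ABG.HO
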