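/-
Alperin-Brauer-Gorenstein, character theory: the characters of the tori (copy of `Lib/Br/Dual` over `RA`).
-/
import Cfsg.Agent.Lib.ABG.POmD
import Cfsg.Agent.Lib.Br.Dual

set_option autoImplicit false
set_option linter.unusedSectionVars false

namespace CA.ABG

open Cfsg Subgroup CA CA.Ch CA.Br

namespace RA

variable {G : Type*} [Group G] [Finite G] (S : RA G)

noncomputable abbrev R : Du S.T →* Du S.T := Du.comp S.r
noncomputable abbrev Sg : Du S.T →* Du S.T := Du.comp S.s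
noncomputable abbrev Sw : Du S.W →* Du S.W := Du.comp S.σ
noncomputable abbrev rT : Du S.H →* Du S.T := Du.comp (inclusion S.T_le_H)
noncomputable abbrev rW : Du S.H →* Du S.W := Du.comp (inclusion S.W_le_H)

theorem ss (x : S.T) : S.s (S.s x) = x := Subtype.ext (by
  simp only [HA.s_coe]; rw [← mul_assoc, ← mul_assoc, S.ww', mul_assoc, S.w_inv, S.ww', one_mul, mul_one])
theorem rs (x : S.T) : S.r (S.s x) = S.s (S.r (S.r x)) := by
  have := S.srsr (S.r (S.r x))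
  rw [S.rrr] at this
  rw [← this, S.ss]
theorem σσ (x : S.W) : S.σ (S.σ x) = x := Subtype.ext (by
  simp only [HA.σ_coe]; rw [← mul_assoc, ← mul_assoc, S.uu, mul_assoc, S.u_inv, S.uu, one_mul, mul_one])
theorem RRR (l : Du S.T) : S.R (S.R (S.R l)) = l := Du.ext' fun x => congrArg l.ch (S.rrr x)
theorem SS (l : Du S.T) : S.Sg (S.Sg l) = l := Du.ext' fun x => congrArg l.ch (S.ss x)
theorem SR (l : Du S.T) : S.Sg (S.R l) = S.R (S.R (S.Sg l)) := Du.ext' fun x => congrArg l.ch (S.rs x)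
theorem SRR (l : Du S.T) : S.Sg (S.R (S.R l)) = S.R (S.Sg l) := by rw [SR, SR, RRR]
theorem SwSw (l : Du S.W) : S.Sw (S.Sw l) = l := Du.ext' fun x => congrArg l.ch (S.σσ x)
theorem R_inj {a b : Du S.T} (h : S.R a = S.R b) : a = b := by rw [← S.RRR a, h, RRR]
theorem tT2 : S.tT * S.tT = 1 := Subtype.ext S.tt
theorem uT2 : S.uT * S.uT = 1 := Subtype.ext S.uu
theorem tW2 : S.tW * S.tW = 1 := Subtype.ext S.tt
theorem tT_ne : S.tT ≠ 1 := fun h => S.t_ne (congrArg Subtype.val h)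
theorem tW_ne : S.tW ≠ 1 := fun h => S.t_ne (congrArg Subtype.val h)

theorem av_ch (l : Du S.T) : S.av l.ch = l.ch + (S.R l).ch + (S.R (S.R l)).ch := rfl
theorem av_sub (a b : S.T → ℂ) : S.av (a - b) = S.av a - S.av b := by
  ext x; simp only [RA.av, Pi.sub_apply]; ring
theorem av_t (a : S.T → ℂ) : S.av a S.tT = a S.tT + a S.uT + a (S.tT * S.uT) := by rw [RA.av, S.r_t, S.r_u]

theorem fix_T {l : Du S.T} : S.Sg l = l ↔ ∀ x : S.T, (x : G) ∈ S.Tm → l.ch x = 1 := by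
  refine ⟨fun h x hx => ?_, fun h => Du.ext' fun x => ?_⟩
  · obtain ⟨y, hy, e⟩ := S.Tm_h90 hx
    rw [show x = S.s ⟨y, hy⟩ * ⟨y, hy⟩⁻¹ from Subtype.ext e, Du.ch_apply_mul,
      show l.ch (S.s ⟨y, hy⟩) = l.ch ⟨y, hy⟩ from congrFun (congrArg Du.ch h) _, ← Du.ch_apply_mul, mul_inv_cancel,
      Du.ch_apply_one]
  · have := h (S.s x * x⁻¹) (S.mem_Tm.2 ⟨Subtype.prop _, congrArg Subtype.val
      (show S.s (S.s x * x⁻¹) = (S.s x * x⁻¹)⁻¹ by rw [map_mul, map_inv, S.ss, mul_inv_rev, inv_inv])⟩)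
    rw [show (S.Sg l).ch x = l.ch (S.s x * x⁻¹ * x) by rw [inv_mul_cancel_right]; rfl, Du.ch_apply_mul, this, one_mul]
theorem fix_W {l : Du S.W} : S.Sw l = l ↔ ∀ x : S.W, (x : G) ∈ S.Wm → l.ch x = 1 := by
  refine ⟨fun h x hx => ?_, fun h => Du.ext' fun x => ?_⟩
  · obtain ⟨y, hy, e⟩ := S.Wm_h90 hx
    rw [show x = S.σ ⟨y, hy⟩ * ⟨y, hy⟩⁻¹ from Subtype.ext e, Du.ch_apply_mul,
      show l.ch (S.σ ⟨y, hy⟩) = l.ch ⟨y, hy⟩ from congrFun (congrArg Du.ch h) _, ← Du.ch_apply_mul, mul_inv_cancel,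
      Du.ch_apply_one]
  · have := h (S.σ x * x⁻¹) (S.mem_Wm.2 ⟨Subtype.prop _, congrArg Subtype.val
      (show S.σ (S.σ x * x⁻¹) = (S.σ x * x⁻¹)⁻¹ by rw [map_mul, map_inv, S.σσ, mul_inv_rev, inv_inv])⟩)
    rw [show (S.Sw l).ch x = l.ch (S.σ x * x⁻¹ * x) by rw [inv_mul_cancel_right]; rfl, Du.ch_apply_mul, this, one_mul]
theorem fix_rT (β : Du S.H) : S.Sg (S.rT β) = S.rT β := S.fix_T.2 fun _ hx => S.lin_Tm β _ hx
theorem fix_rW (β : Du S.H) : S.Sw (S.rW β) = S.rW β := S.fix_W.2 fun _ hx => S.lin_Wm β _ hx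
theorem fix_t {l : Du S.T} (h : S.Sg l = l) : l.ch S.tT = 1 := S.fix_T.1 h _ S.t_Tm
theorem fix_tW {l : Du S.W} (h : S.Sw l = l) : l.ch S.tW = 1 := S.fix_W.1 h _ S.t_Wm
theorem exists_rT {l : Du S.T} (h : S.Sg l = l) (h2 : Tw l) : ∃ β, Tw β ∧ S.rT β = l := by
  obtain ⟨β, rfl⟩ := S.ext_T S.T_le_H l (S.fix_T.1 h)
  obtain ⟨k, hk⟩ := h2.pow_eq
  exact ⟨β, tw_of_pow (k := k) (S.inj_T S.T_le_H (by rw [map_pow, hk, map_one])), rfl⟩
theorem exists_rW {l : Du S.W} (h : S.Sw l = l) (h2 : Tw l) : ∃ β, Tw β ∧ S.rW β = l := by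
  obtain ⟨β, rfl⟩ := S.ext_W l (S.fix_W.1 h)
  obtain ⟨k, hk⟩ := h2.pow_eq
  exact ⟨β, tw_of_pow (k := k) (S.inj_W (by rw [map_pow, hk, map_one])), rfl⟩
theorem rT_ne {β : Du S.H} (h : β ≠ 1) : S.rT β ≠ 1 := fun e => h (S.inj_T S.T_le_H (by rw [e, map_one]))
theorem rW_ne {β : Du S.H} (h : β ≠ 1) : S.rW β ≠ 1 := fun e => h (S.inj_W (by rw [e, map_one]))

/-- `ρ` acts without fixed points on the 2-part -/
theorem R_fix {l : Du S.T} (h2 : Tw l) (h : S.R l = l) : l = 1 := by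
  obtain ⟨k, m, hm, e⟩ := Nat.exists_eq_two_pow_mul_odd (Nat.card_pos (α := S.T)).ne'
  have key : ∀ j, ∀ x : S.T, S.r x = x → x ^ (2 ^ j * m) = 1 → x ^ m = 1 := fun j => by
    induction j with
    | zero => intro x _ h; simpa using h
    | succ j ih =>
      intro x hx h
      refine ih x hx ?_
      have h1 : S.r (x ^ (2 ^ j * m)) = x ^ (2 ^ j * m) := by rw [map_pow, hx]
      have h2 : x ^ (2 ^ j * m) * x ^ (2 ^ j * m) = 1 := by rw [← pow_add, ← h]; congr 1; ring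
      generalize x ^ (2 ^ j * m) = y at h1 h2
      rcases S.inv_T y.2 (congrArg Subtype.val h2) with e | e | e | e
      · exact Subtype.ext e
      · rw [show y = S.tT from Subtype.ext e, S.r_t] at h1
        exact absurd (congrArg Subtype.val h1).symm S.t_ne_u
      · rw [show y = S.uT from Subtype.ext e, S.r_u, mul_eq_right] at h1
        exact absurd h1 S.tT_ne
      · rw [show y = S.tT * S.uT from Subtype.ext e, map_mul, S.r_t, S.r_u, mul_eq_right] at h1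
        exact absurd (congrArg Subtype.val h1) S.u_ne
  refine Du.ext' fun x => ?_
  have h0 : l.ch (S.r x) = l.ch x := congrFun (congrArg Du.ch h) x
  have h0' : l.ch (S.r (S.r x)) = l.ch (S.r x) := congrFun (congrArg Du.ch h) _
  have h1 := h2 (x * S.r x * S.r (S.r x)) (hm.of_dvd_nat (orderOf_dvd_of_pow_eq_one (key k _ (by
    rw [map_mul, map_mul, S.rrr, mul_comm', mul_assoc]) (by rw [← e, pow_card_eq_one']))))
  rw [Du.ch_apply_mul, Du.ch_apply_mul, h0', h0] at h1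
  obtain ⟨j, hj⟩ := h2.pow_eq
  have h3 : l.ch x ^ 2 ^ j = 1 := by rw [← Pi.pow_apply, ← Du.ch_pow, hj]; rfl
  have := pow_gcd_eq_one.2 ⟨h3, show l.ch x ^ 3 = 1 by rw [← h1]; ring⟩
  rwa [(Nat.Coprime.pow_left j (by norm_num : Nat.Coprime 2 3)).gcd_eq_one, pow_one] at this

/-- trivial stabilizer in `S₃` -/
structure Gen (l : Du S.T) : Prop where
  h0 : S.Sg l ≠ l
  h1 : S.Sg (S.R l) ≠ S.R l
  h2 : S.Sg (S.R (S.R l)) ≠ S.R (S.R l)
  hr : S.R l ≠ l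

/-- the number of elements of `S₃` moving `b` to `a` -/
noncomputable def nn (a b : Du S.T) : ℂ := ⟪a.ch, S.av b.ch⟫ + ⟪a.ch, S.av b.ch ∘ S.s⟫

theorem nn_eq (a b : Du S.T) : S.nn a b = (if a = b then 1 else 0) + (if a = S.R b then 1 else 0) +
    (if a = S.R (S.R b) then 1 else 0) + ((if a = S.Sg b then 1 else 0) + (if a = S.Sg (S.R b) then 1 else 0) +
    (if a = S.Sg (S.R (S.R b)) then 1 else 0)) := by
  have : S.av b.ch ∘ S.s = (S.Sg b).ch + (S.Sg (S.R b)).ch + (S.Sg (S.R (S.R b))).ch := rfl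
  rw [nn, this, av_ch]
  simp only [ip_add_right, Du.ip_ch]

theorem nn_one_one : S.nn 1 1 = 6 := by rw [nn_eq]; simp only [map_one, if_true]; norm_num
theorem nn_one {a : Du S.T} (h : a ≠ 1) : S.nn a 1 = 0 := by rw [nn_eq]; simp only [map_one, if_neg h]; norm_num
theorem one_nn {a : Du S.T} (h : a ≠ 1) : S.nn 1 a = 0 := by
  have h1 : ∀ {b}, b ≠ 1 → S.R b ≠ 1 := fun h e => h (S.R_inj (by rw [e, map_one]))
  have h2 : ∀ {b}, b ≠ 1 → S.Sg b ≠ 1 := fun {b} h e => h (by rw [← S.SS b, e, map_one])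
  rw [nn_eq, if_neg h.symm, if_neg (h1 h).symm, if_neg (h1 (h1 h)).symm, if_neg (h2 h).symm, if_neg (h2 (h1 h)).symm,
    if_neg (h2 (h1 (h1 h))).symm]
  norm_num
theorem nn_fix {a b : Du S.T} (ha : S.Sg a = a) (hb : S.Sg b = b) (hr : S.R b ≠ b) :
    S.nn a b = if a = b then 2 else 0 := by
  have h1 : a ≠ S.R b := fun e => hr (S.R_inj (by rw [e, SR, hb] at ha; exact ha))
  have h2 : a ≠ S.R (S.R b) := fun e => hr (S.R_inj (by rw [e, SRR, hb] at ha; exact ha.symm))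
  rw [nn_eq, SR, SRR, hb, if_neg h1, if_neg h2]
  split_ifs <;> norm_num
theorem nn_gen {a : Du S.T} (h : S.Gen a) : S.nn a a = 1 := by
  have h1 : a ≠ S.R (S.R a) := fun e => h.hr (by conv_lhs => rw [e, RRR])
  rw [nn_eq, if_pos rfl, if_neg h.hr.symm, if_neg h1, if_neg h.h0.symm,
    if_neg fun e => h.h2 (by rw [SRR]; conv_lhs => rw [e, SS]),
    if_neg fun e => h.h1 (by rw [SR]; conv_lhs => rw [e, SS, RRR])]
  norm_num
theorem nn_gen_fix {a b : Du S.T} (h : S.Gen a) (hb : S.Sg b = b) : S.nn a b = 0 := by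
  have h0 : a ≠ b := fun e => h.h0 (e ▸ hb)
  have h1 : a ≠ S.R b := fun e => h.h2 (by rw [e, RRR, hb])
  have h2 : a ≠ S.R (S.R b) := fun e => h.h1 (by rw [e, RRR, hb])
  rw [nn_eq, SR, SRR, hb, if_neg h0, if_neg h1, if_neg h2]
  norm_num
theorem nn_fix_gen {a b : Du S.T} (h : S.Gen a) (hb : S.Sg b = b) : S.nn b a = 0 := by
  have k : ∀ c, b = S.Sg c → b = c := fun c e => by rw [← hb, e, SS]
  have h0 : b ≠ a := fun e => h.h0 (e ▸ hb)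
  have h1 : b ≠ S.R a := fun e => h.h1 (e ▸ hb)
  have h2 : b ≠ S.R (S.R a) := fun e => h.h2 (e ▸ hb)
  rw [nn_eq, if_neg h0, if_neg h1, if_neg h2, if_neg (mt (k _) h0), if_neg (mt (k _) h1), if_neg (mt (k _) h2)]
  norm_num
theorem nn_R (a b : Du S.T) : S.nn a (S.R b) = S.nn a b := by rw [nn_eq, nn_eq, RRR]; ring

theorem ip_Tm (l : Du S.T) : ⟪l.ch ∘ inclusion S.Tm_le_T, 1⟫ = if S.Sg l = l then 1 else 0 := by
  rw [← Du.ch_comp, Du.ip_ch_one]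
  refine if_congr ⟨fun h => S.fix_T.2 fun x hx => congrFun (congrArg Du.ch h) ⟨x, hx⟩,
    fun h => Du.ext' fun x => S.fix_T.1 h _ x.2⟩ rfl rfl
theorem ip_Wm (l : Du S.W) : ⟪l.ch ∘ inclusion S.Wm_le_W, 1⟫ = if S.Sw l = l then 1 else 0 := by
  rw [← Du.ch_comp, Du.ip_ch_one]
  refine if_congr ⟨fun h => S.fix_W.2 fun x hx => congrFun (congrArg Du.ch h) ⟨x, hx⟩,
    fun h => Du.ext' fun x => S.fix_W.1 h _ x.2⟩ rfl rfl
theorem ip_av_Tm (l : Du S.T) : ⟪S.av l.ch ∘ inclusion S.Tm_le_T, 1⟫ = (if S.Sg l = l then 1 else 0) +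
    (if S.Sg (S.R l) = S.R l then 1 else 0) + (if S.Sg (S.R (S.R l)) = S.R (S.R l) then 1 else 0) := by
  rw [av_ch, Pi.add_comp, Pi.add_comp, ip_add_left, ip_add_left, ip_Tm, ip_Tm, ip_Tm]

theorem Q_odd : S.Q % 4 = 1 ∨ S.Q % 4 = 3 := by
  obtain ⟨k, hk⟩ := S.odd
  rcases S.Q_cases with ⟨-, h⟩ | ⟨-, h⟩ <;> omega
theorem d_mul : ∃ k : ℤ, k % 2 = 1 ∧ S.Q - 1 = S.d * k := by
  obtain ⟨k, ⟨j, hj⟩, h⟩ := S.d_dvd
  rcases S.Q_cases with ⟨h1, h2⟩ | ⟨h1, h2⟩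
  · exact ⟨k, by omega, by rw [h2, HA.d, ← h, h1]⟩
  · exact ⟨-k, by omega, by rw [h2, HA.d, mul_neg, ← h, h1]; ring⟩
theorem d_even : (2 : ℤ) ∣ S.d := by
  obtain ⟨k, hk, h⟩ := S.d_mul
  have h2 : (2 : ℤ) ∣ S.d * k := by rw [← h]; have := S.Q_odd; omega
  exact (Int.prime_two.dvd_or_dvd h2).resolve_right (by omega)
theorem u_not_Tm : S.u ∉ S.Tm := fun h => S.t_ne (by
  have := (S.mem_Tm.1 h).2; rwa [S.wu, S.u_inv, mul_eq_right] at this)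
theorem sq_V {x : G} (h : x ∈ S.V) : x * x = 1 := by
  rcases S.mem_V.1 h with rfl | rfl | rfl | rfl
  exacts [mul_one 1, S.tt, S.uu, by rw [mul_assoc, ← mul_assoc S.u, S.ut, mul_assoc, S.uu, mul_one, S.tt]]

theorem exists_α : ∃ α : Du S.H, Tw α ∧ (S.rT α).ch S.uT = -1 := by
  obtain ⟨l, h1, h2, h3⟩ := exists_tw (S.Tm.subgroupOf S.T) (x := S.uT) fun n ⟨k, hk⟩ hn => S.u_not_Tm (by
    rwa [hk, pow_succ, pow_mul, sq, S.uT2, one_pow, one_mul] at hn)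
  obtain ⟨β, hβ, rfl⟩ := S.exists_rT (S.fix_T.2 h2) h1
  exact ⟨β, hβ, (ch_inv2 _ S.uT2).resolve_left h3⟩

theorem Sw_eq (l : Du S.W) : S.Sw l = l ^ S.Q := Du.ext' fun x => by
  rw [← ch_zpow]; exact congrArg l.ch (Subtype.ext (S.u_W_pow x.2))
theorem Sw_t (l : Du S.W) : (S.Sw l).ch S.tW = l.ch S.tW :=
  congrArg l.ch (Subtype.ext (show S.u * S.t * S.u⁻¹ = S.t by rw [S.ut, mul_inv_cancel_right]))

theorem exists_φ : ∃ φ0 φ1 : Du S.W, Tw φ0 ∧ Tw φ1 ∧ φ0.ch S.tW = -1 ∧ φ1.ch S.tW = -1 ∧ φ1 ≠ φ0 ∧ φ1 ≠ S.Sw φ0 ∧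
    (S.Q % 4 = 3 → ∃ φ2, Tw φ2 ∧ S.Sw φ2 ≠ φ2 ∧ φ2.ch S.tW = 1) := by
  obtain ⟨l, h1, -, h3⟩ := exists_tw (⊥ : Subgroup S.W) (x := S.tW) fun n ⟨k, hk⟩ hn => S.tW_ne (by
    rwa [mem_bot, hk, pow_succ, pow_mul, sq, S.tW2, one_pow, one_mul] at hn)
  have ht := (ch_inv2 l S.tW2).resolve_left h3
  have := S.cyc_W
  obtain ⟨ω, hω⟩ := IsCyclic.exists_ofOrder_eq_natCard (α := S.W)
  have key : ∀ a b c : ℤ, c % 2 = 1 → 2 * (a * b) = Nat.card S.W * c → l ^ b ≠ 1 := fun a b c hc h e => by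
    have h0 : ω ^ (a * b) ≠ 1 := fun e => by
      obtain ⟨k, hk⟩ := orderOf_dvd_iff_zpow_eq_one.2 e
      rw [hk, hω, mul_left_comm, mul_right_inj' (by exact_mod_cast Nat.card_pos.ne')] at h
      omega
    have h2 : ω ^ (a * b) * ω ^ (a * b) = 1 := by
      rw [← zpow_add, ← two_mul, h, zpow_mul, zpow_natCast, pow_card_eq_one', one_zpow]
    have h4 : ω ^ (a * b) = S.tW :=
      Subtype.ext ((S.inv_W (ω ^ (a * b)).2 (congrArg Subtype.val h2)).resolve_left fun e => h0 (Subtype.ext e))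
    rw [← h4, zpow_mul, ch_zpow, e] at h3
    exact h3 rfl
  obtain ⟨d, hd⟩ := S.d_even
  have hW := S.card_W'
  rw [hd] at hW
  have he : S.e % 2 = 1 := by rcases S.he with h | h <;> rw [h] <;> rfl
  obtain ⟨m, hm⟩ : ∃ m, S.Q + 1 = 2 * m := ⟨(S.Q + 1) / 2, by have := S.Q_odd; omega⟩
  refine ⟨l, l⁻¹, h1, by simpa using h1.zpow (-1), ht, by simp [Du.ch_inv, ht], fun e => ?_, fun e => ?_, fun h4 => ?_⟩
  · exact key (S.e * m * d) 2 1 rfl (by rw [hW, hm]; ring) (by rw [zpow_two, ← eq_inv_iff_mul_eq_one, e])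
  · exact key (S.e * d) (S.Q + 1) 1 rfl (by rw [hW]; ring) (by rw [zpow_add_one, ← Sw_eq, ← e, inv_mul_cancel])
  · refine ⟨l ^ (2 : ℤ), h1.zpow 2, fun e => ?_, by rw [zpow_two, Du.ch_mul, Pi.mul_apply, ht]; ring⟩
    obtain ⟨j, hj⟩ : ∃ j, S.Q = 4 * j + 3 := ⟨S.Q / 4, by omega⟩
    refine key (S.e * (j + 1) * d) (2 * (S.Q - 1)) (2 * j + 1) (by omega) (by rw [hW, hj]; ring) ?_
    rw [zpow_mul, zpow_sub_one, ← Sw_eq, e, mul_inv_cancel]

theorem exists_sqrt (h : S.Q % 4 = 1) : ∃ x : S.T, x * x = S.uT := by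
  obtain ⟨k, hk, e⟩ := S.d_mul
  obtain ⟨x, hx, h1, h2⟩ := exists_ord4 S.Z S.cyc_Z (by
    have : IsCoprime (4 : ℤ) k := by
      obtain ⟨j, rfl⟩ : ∃ j, k = 2 * j + 1 := ⟨k / 2, by omega⟩
      exact ⟨-(j * j + j), 2 * j + 1, by ring⟩
    exact_mod_cast this.dvd_of_dvd_mul_right (e ▸ by omega : (4 : ℤ) ∣ S.d * k))
  have := (S.inv_W (S.Z_le_W (mul_mem hx hx)) h2).resolve_left h1
  exact ⟨S.r ⟨x, S.Z_le_T hx⟩, by rw [← map_mul, ← S.r_t]; exact congrArg _ (Subtype.ext this)⟩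

theorem gen_aux {l : Du S.T} (ht : l.ch S.tT = 1) (hu : l.ch S.uT = -1) :
    S.Sg (S.R l) ≠ S.R l ∧ S.Sg (S.R (S.R l)) ≠ S.R (S.R l) := by
  refine ⟨fun e => ?_, fun e => ?_⟩
  · have : l.ch (S.r S.tT) = 1 := S.fix_t e
    rw [S.r_t, hu] at this; norm_num at this
  · have : l.ch (S.r (S.r S.tT)) = 1 := S.fix_t e
    rw [S.r_t, S.r_u, Du.ch_apply_mul, ht, hu] at this; norm_num at this

theorem gen_of {l : Du S.T} (h2 : Tw l) (h0 : S.Sg l ≠ l) (ht : l.ch S.tT = 1) (hu : l.ch S.uT = -1) : S.Gen l :=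
  ⟨h0, (S.gen_aux ht hu).1, (S.gen_aux ht hu).2, fun e => h0 (by rw [S.R_fix h2 e, map_one])⟩

theorem exists_gen (h : S.Q % 4 = 1) : ∃ l, Tw l ∧ S.Gen l ∧ l.ch S.tT = 1 ∧ l.ch S.uT = -1 := by
  obtain ⟨α, h1, h2⟩ := S.exists_α
  obtain ⟨x, hx, x1, x2⟩ := exists_ord4 S.Tm S.cyc_Tm (by
    have : (4 : ℤ) ∣ Nat.card S.Tm := S.card_Tm' ▸ Dvd.dvd.mul_left (by omega) _
    exact_mod_cast this)
  obtain ⟨l, l1, l2, l3⟩ := exists_tw (S.V.subgroupOf S.T) (x := ⟨x, S.Tm_le_T hx⟩) fun n ⟨k, hk⟩ hn => x1 (by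
    have : x ^ n * x ^ n = 1 := S.sq_V hn
    rwa [← pow_add, hk, show 2 * k + 1 + (2 * k + 1) = 4 * k + 2 by ring, pow_add, pow_mul,
      show x ^ 4 = x * x * (x * x) by simp [pow_succ, mul_assoc], x2, one_pow, one_mul, sq] at this)
  have ht : (S.rT α * l).ch S.tT = 1 := by rw [Du.ch_mul, Pi.mul_apply, S.fix_t (S.fix_rT α), l2 _ S.t_V, mul_one]
  have hu : (S.rT α * l).ch S.uT = -1 := by rw [Du.ch_mul, Pi.mul_apply, h2, l2 _ S.u_V, mul_one]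
  refine ⟨_, (h1.comp _).mul l1, S.gen_of ((h1.comp _).mul l1) (fun e => l3 ?_) ht hu, ht, hu⟩
  have := S.fix_T.1 e ⟨x, S.Tm_le_T hx⟩ hx
  rwa [Du.ch_mul, Pi.mul_apply, S.fix_T.1 (S.fix_rT α) _ hx, one_mul] at this

theorem card_Tm2 (h : S.Q % 4 = 3) : ∃ c, Nat.card S.Tm = 2 * (2 * c + 1) := by
  have := S.card_Tm'
  refine ⟨Nat.card S.Tm / 4, ?_⟩
  rcases S.he with e | e <;> rw [e] at this <;> omega

theorem not_gen (h : S.Q % 4 = 3) {l : Du S.T} (h2 : Tw l) : ¬ S.Gen l := fun g => by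
  obtain ⟨c, hc⟩ := S.card_Tm2 h
  have key : ∀ {l : Du S.T}, Tw l → l.ch S.tT = 1 → S.Sg l = l := fun {l} h2 ht => S.fix_T.2 fun x hx => by
    have h1 : x ^ (2 * (2 * c + 1)) = 1 := Subtype.ext (by
      rw [← hc]; exact congrArg S.Tm.subtype (pow_card_eq_one' (x := (⟨x, hx⟩ : S.Tm))))
    have h3 : l.ch (x ^ 2) = 1 := h2 _ (Odd.of_dvd_nat ⟨c, rfl⟩ (orderOf_dvd_of_pow_eq_one (by rw [← pow_mul, h1])))
    have h4 : l.ch (x ^ (2 * c + 1)) = 1 := by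
      have h5 : ((x ^ (2 * c + 1) : S.T) : G) ∈ S.Tm := pow_mem hx _
      rcases S.inv_T (x ^ (2 * c + 1)).2 (congrArg Subtype.val (show x ^ (2 * c + 1) * x ^ (2 * c + 1) = 1 by
        rw [← pow_add, ← two_mul, h1])) with e | e | e | e
      · rw [show x ^ (2 * c + 1) = 1 from Subtype.ext e, Du.ch_apply_one]
      · rw [show x ^ (2 * c + 1) = S.tT from Subtype.ext e, ht]
      · exact absurd (e ▸ h5) S.u_not_Tm
      · exact absurd ((mul_mem_cancel_left S.t_Tm).1 (e ▸ h5)) S.u_not_Tm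
    rwa [pow_succ, pow_mul, Du.ch_apply_mul, Du.ch_apply_pow, h3, one_pow, one_mul] at h4
  have a := (ch_inv2 l S.tT2).resolve_left (mt (key h2) g.h0)
  have b : l.ch (S.r S.tT) = -1 := (ch_inv2 (S.R l) S.tT2).resolve_left (mt (key (h2.comp _)) g.h1)
  refine g.h2 (key ((h2.comp _).comp _) (show l.ch (S.r (S.r S.tT)) = 1 from ?_))
  rw [S.r_t] at b
  rw [S.r_t, S.r_u, Du.ch_apply_mul, a, b]; ring

end RA

end CA.ABG
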